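import Cfsg.Agent.H87.S3344.Hom
import Cfsg.Agent.H92.LargeSimple
import Cfsg.Agent.H92.Extra
import Cfsg.Agent.H92.ExtraIso
import Cfsg.Prelude.Def_Transfer

/-!
The hypotheses on the centraliser give an embedding of one of the four models.
-/

set_option autoImplicit false

namespace Cfsg.Agent.H87.S3344

open Subgroup

lemma perm_invert : ∀ g : Equiv.Perm (Fin 3), g * g * g = 1 → g ≠ 1 →
    (∃ t : Equiv.Perm (Fin 3), t * g * t⁻¹ = g⁻¹) ∧
      ∀ t : Equiv.Perm (Fin 3), t * g * t⁻¹ = g⁻¹ → t * t = 1 := by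
  decide +kernel

variable {L : Type*} [Group L] [Finite L]

lemma exists_inverting {Q : Subgroup L} [Q.Normal] (φ : L →* Equiv.Perm (Fin 3))
    (hφ : Function.Surjective φ) (hker : φ.ker = Q) (hQ : Nat.card Q = 32) {x : L} (h3 : x * x * x = 1)
    (hx1 : x ≠ 1) (hxQ : x ∉ Q) : ∃ u, u * x * u⁻¹ = x * x ∧ u * u ∈ Q ∧ u * u * x = x * (u * u) := by
  haveI : Fact (Nat.Prime 3) := ⟨Nat.prime_three⟩
  have hg3 : φ x * φ x * φ x = 1 := by rw [← map_mul, ← map_mul, h3, map_one]
  have hg1 : φ x ≠ 1 := fun h => hxQ (hker ▸ h)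
  obtain ⟨⟨t, ht⟩, hsq⟩ := perm_invert (φ x) hg3 hg1
  obtain ⟨w, rfl⟩ := hφ t
  have hord : orderOf x = 3 := orderOf_eq_prime (by rw [pow_three, ← mul_assoc, h3]) hx1
  set x' := (w * x * w⁻¹)⁻¹ with hx'
  have hord' : orderOf x' = 3 := by rw [hx', orderOf_inv, ← MulAut.conj_apply, MulEquiv.orderOf_eq, hord]
  have hφx' : φ x' = φ x := by rw [hx', map_inv, map_mul, map_mul, map_inv, ht, inv_inv]
  set H : Subgroup L := (zpowers (φ x)).comap φ with hH
  have hHcard : Nat.card H = 3 * 32 := by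
    have h1 := H.card_mul_index
    have h2 := Q.card_mul_index
    rw [hH, index_comap_of_surjective _ hφ] at h1
    have h3' := (zpowers (φ x)).card_mul_index
    have hi : Q.index = Nat.card (Equiv.Perm (Fin 3)) := by
      rw [← hker, index_ker, MonoidHom.range_eq_top.2 hφ, Subgroup.card_top]
    rw [Nat.card_zpowers, orderOf_eq_prime (by rw [pow_three, ← mul_assoc, hg3]) hg1] at h3'
    rw [hi, hQ, Nat.card_perm, Nat.card_fin] at h2
    rw [Nat.card_perm, Nat.card_fin] at h3'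
    norm_num [Nat.factorial] at h2 h3'
    have : (zpowers (φ x)).index = 2 := by omega
    rw [this, ← h2, ← hH] at h1
    omega
  have hfac : (Nat.card H).factorization 3 = 1 := by
    rw [hHcard, Nat.factorization_mul_apply_of_coprime (by norm_num), Nat.Prime.factorization_self Nat.prime_three,
      Nat.factorization_eq_zero_of_not_dvd (by norm_num)]
  have hxH : x ∈ H := mem_zpowers _
  have hx'H : x' ∈ H := by show φ x' ∈ zpowers (φ x); rw [hφx']; exact mem_zpowers _
  let P : Sylow 3 H := Sylow.ofCard (zpowers (⟨x, hxH⟩ : H)) (by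
    rw [hfac, pow_one, Nat.card_zpowers, Subgroup.orderOf_mk, hord])
  let P' : Sylow 3 H := Sylow.ofCard (zpowers (⟨x', hx'H⟩ : H)) (by
    rw [hfac, pow_one, Nat.card_zpowers, Subgroup.orderOf_mk, hord'])
  obtain ⟨k, hk⟩ := MulAction.exists_smul_eq H P P'
  have hmem : k * ⟨x, hxH⟩ * k⁻¹ ∈ zpowers (⟨x', hx'H⟩ : H) := by
    have h := (Subgroup.smul_mem_pointwise_smul_iff (a := MulAut.conj k) (S := (P : Subgroup H))
      (x := (⟨x, hxH⟩ : H))).2 (mem_zpowers _)
    have h' : k * ⟨x, hxH⟩ * k⁻¹ ∈ ((k • P : Sylow 3 H) : Subgroup H) := by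
      rw [Sylow.smul_def]; exact h
    rwa [hk] at h'
  obtain ⟨n, hn⟩ := hmem
  have hn' : x' ^ n = (k : L) * x * (k : L)⁻¹ := congrArg Subtype.val hn
  have hkx : (k : L) * x * (k : L)⁻¹ = x' := by
    have h1 := congrArg φ hn'
    obtain ⟨m, hm⟩ : φ (k : L) ∈ zpowers (φ x) := k.2
    rw [map_zpow, hφx', map_mul, map_mul, map_inv, ← hm, ← zpow_add_one, ← zpow_neg, ← zpow_add,
      show m + 1 + -m = 1 by ring, zpow_one] at h1
    rw [← hn']
    conv_rhs => rw [← zpow_one x']
    rw [← orderOf_dvd_sub_iff_zpow_eq_zpow, hord', ← orderOf_eq_prime (p := 3) (x := φ x) (by rw [pow_three, ← mul_assoc, hg3]) hg1]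
    exact orderOf_dvd_sub_iff_zpow_eq_zpow.2 (by rw [zpow_one]; exact h1)
  have hxx : x⁻¹ = x * x := inv_eq_of_mul_eq_one_right (by rw [← mul_assoc, h3])
  have hu : (k : L)⁻¹ * w * x * ((k : L)⁻¹ * w)⁻¹ = x * x := by
    rw [← hxx, show (k : L)⁻¹ * w * x * ((k : L)⁻¹ * w)⁻¹ = (k : L)⁻¹ * (w * x * w⁻¹) * k by group,
      show w * x * w⁻¹ = x'⁻¹ by rw [hx', inv_inv], ← hkx]
    group
  refine ⟨(k : L)⁻¹ * w, hu, ?_, ?_⟩
  · rw [← hker, MonoidHom.mem_ker, map_mul]
    refine hsq _ ?_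
    rw [← map_inv φ ((k : L)⁻¹ * w), ← map_mul, ← map_mul, hu, ← hxx, map_inv]
  · generalize (k : L)⁻¹ * w = u at hu
    apply mul_inv_eq_iff_eq_mul.1
    rw [show u * u * x * (u * u)⁻¹ = u * (u * x * u⁻¹) * u⁻¹ by group, hu,
      show u * (x * x) * u⁻¹ = u * x * u⁻¹ * (u * x * u⁻¹) by group, hu,
      show x * x * (x * x) = x * x * x * x by group, h3, one_mul]

theorem exists_emb {G : Type*} [Group G] [Finite G] (s : G) (hs : orderOf s = 2) (C : Subgroup G)
    (hC : C = Subgroup.centralizer ({s} : Set G))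
    (Q : Subgroup G) (hQ : Q = (Cfsg.pCore 2 C).map C.subtype)
    (hQex : Cfsg.IsExtraspecial 2 Q) (hQcard : Nat.card Q = 32)
    (e : C ⧸ Cfsg.pCore 2 C ≃* Equiv.Perm (Fin 3))
    (X : Sylow 3 C)
    (hCQX : Q ⊓ Subgroup.centralizer (((X : Subgroup C).map C.subtype : Subgroup G) : Set G) = Subgroup.zpowers s) :
    ∃ ty us : Bool, ∃ E : Mdl.Emb ty us s, ∀ q : Mdl ty us, E.hom q ∈ Q ↔ q.val < 32 := by
  haveI : Fact (Nat.Prime 3) := ⟨Nat.prime_three⟩
  subst hQ
  set Qc := Cfsg.pCore 2 C with hQc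
  have hcard : Nat.card Qc = 32 := by rw [← hQcard, card_map_of_injective C.subtype_injective]
  have hex : Cfsg.IsExtraspecial 2 Qc :=
    H92.isExtraspecial_of_mulEquiv (Qc.equivMapOfInjective _ C.subtype_injective).symm hQex
  have hsQG : s ∈ Qc.map C.subtype := (inf_le_left : _ ⊓ _ ≤ Qc.map C.subtype) (hCQX ▸ mem_zpowers s)
  obtain ⟨s', hs'Q, hs'⟩ := hsQG
  have hs'1 : s' ≠ 1 := fun h => by
    rw [h, map_one] at hs'; rw [← hs', orderOf_one] at hs; omega
  have hcs : ∀ g : C, g * s' = s' * g := fun g => Subtype.ext (by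
    have := mem_centralizer_singleton_iff.1 (hC ▸ g.2 : (g : G) ∈ Subgroup.centralizer ({s} : Set G))
    simpa [← hs'] using this)
  have hs2 : s' * s' = 1 := Subtype.ext (by
    have : s * s = 1 := by rw [← pow_two, ← hs, pow_orderOf_eq_one]
    simpa [← hs'] using this)
  have hz : s' ∈ (center Qc).map Qc.subtype :=
    ⟨⟨s', hs'Q⟩, mem_center_iff.2 fun g => Subtype.ext (hcs g), rfl⟩
  have h01 : ∀ y ∈ (center Qc).map Qc.subtype, y = 1 ∨ y = s' :=
    fun y hy => H92.eq_one_or_center hex hz hs'1 hy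
  -- the element of order three
  let φ : C →* Equiv.Perm (Fin 3) := e.toMonoidHom.comp (QuotientGroup.mk' Qc)
  have hφ : Function.Surjective φ := e.surjective.comp (QuotientGroup.mk'_surjective Qc)
  have hker : φ.ker = Qc := by
    ext g; rw [MonoidHom.mem_ker]; simp [φ]
  have hL : Nat.card C = 192 := by
    have h := Qc.card_eq_card_quotient_mul_card_subgroup
    rw [Nat.card_congr e.toEquiv, Nat.card_perm, Nat.card_fin, hcard] at h
    simpa [Nat.factorial] using h
  have hX : Nat.card X = 3 := by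
    rw [Sylow.card_eq_multiplicity, hL, show (192 : ℕ) = 3 * 64 from rfl,
      Nat.factorization_mul_apply_of_coprime (by norm_num), Nat.Prime.factorization_self Nat.prime_three,
      Nat.factorization_eq_zero_of_not_dvd (by norm_num)]
    norm_num
  obtain ⟨x, hxX, hx1⟩ := (bot_or_exists_ne_one (X : Subgroup C)).resolve_left fun h => by
    rw [h, card_bot] at hX; omega
  have hord : orderOf x = 3 := by
    have hd : orderOf x ∣ 3 := hX ▸ Subgroup.orderOf_dvd_natCard _ hxX
    exact ((Nat.dvd_prime Nat.prime_three).1 hd).resolve_left fun h => hx1 (orderOf_eq_one_iff.1 h)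
  have hx3 : x * x * x = 1 := by rw [mul_assoc, ← pow_three, ← hord, pow_orderOf_eq_one]
  have hXx : zpowers x = X := eq_of_le_of_card_ge (zpowers_le.2 hxX) (by rw [Nat.card_zpowers, hord, hX])
  have hxQ : x ∉ Qc := fun h => by
    have := Subgroup.orderOf_dvd_natCard _ h
    rw [hord, hcard] at this; omega
  have hfix : ∀ q ∈ Qc, x * q = q * x → q = 1 ∨ q = s' := by
    intro q hq hxq
    have hmem : (q : G) ∈ zpowers s := hCQX ▸ mem_inf.2 ⟨mem_map_of_mem _ hq, by
      rw [mem_centralizer_iff]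
      rintro _ ⟨y, hy, rfl⟩
      rw [SetLike.mem_coe, ← hXx] at hy
      obtain ⟨k, rfl⟩ := hy
      exact congrArg C.subtype ((Commute.zpow_left hxq k).eq)⟩
    obtain ⟨k, hk⟩ := hmem
    have : q = s' ^ k := Subtype.ext (by rw [← hk]; simp [← hs'])
    rcases Int.even_or_odd' k with ⟨m, rfl | rfl⟩
    · left; rw [this, zpow_mul, show s' ^ (2 : ℤ) = 1 by rw [zpow_two, hs2], one_zpow]
    · right; rw [this, zpow_add_one, zpow_mul, show s' ^ (2 : ℤ) = 1 by rw [zpow_two, hs2], one_zpow, one_mul]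
  obtain ⟨u, hux, huQ, hu2⟩ := exists_inverting φ hφ hker hcard hx3 hx1 hxQ
  have hS : Setup Qc s' x u := by
    refine ⟨inferInstance, hcard, hs2, hs'1, hs'Q, hcs, fun q hq => h01 _ (H92.sq_mem_center_map hex hq),
      fun q hq r hr => ?_, fun q hq hcomm => h01 q ⟨⟨q, hq⟩, mem_center_iff.2 fun g => Subtype.ext
        (hcomm g g.2).symm, rfl⟩, hx3, hx1, hfix, hux, ?_⟩
    · rcases h01 _ (H92.commutator_mem_center_map hex hr hq) with h | h
      · exact Or.inl (by
          calc r * q = r * q * r⁻¹ * q⁻¹ * (q * r) := by group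
            _ = _ := by rw [h, one_mul])
      · exact Or.inr (by
          calc r * q = r * q * r⁻¹ * q⁻¹ * (q * r) := by group
            _ = _ := by rw [h, hcs])
    · exact hfix _ huQ hu2.symm
  obtain ⟨ty, a, c, hG, hI⟩ := hS.exists_gens
  obtain ⟨us, hus⟩ : ∃ us, u * u = pw s' us := by
    rcases hS.uu with h | h
    · exact ⟨false, h⟩
    · exact ⟨true, h⟩
  have hinj := hG.modelHom_injective hS hus hI
  have hbij : Function.Bijective (hG.modelHom hS hus) :=
    (Nat.bijective_iff_injective_and_card _).2 ⟨hinj, by rw [Mdl.card, hL]⟩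
  refine ⟨ty, us, ⟨C.subtype.comp (hG.modelHom hS hus), C.subtype_injective.comp hinj, ?_, ?_⟩,
    fun q => ?_⟩
  · rw [MonoidHom.range_comp, MonoidHom.range_eq_top.2 hbij.2, ← MonoidHom.range_eq_map, range_subtype, hC]
  · show ((hG.modelHom hS hus Mdl.z : C) : G) = s
    rw [hG.modelHom_z]; exact hs'
  · show ((evM s' x u a c q.val : C) : G) ∈ Qc.map C.subtype ↔ _
    have hlt := q.val_lt
    constructor
    · rintro ⟨y, hy, hye⟩
      obtain rfl : y = evM s' x u a c q.val := Subtype.ext hye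
      obtain ⟨i, j, k, l, f, he⟩ := hG.ev_surjective hS hI hy
      have hnb : nb i j k l f < 192 := lt_trans (bits_nb i j k l f).1 (by norm_num)
      have heq : hG.modelHom hS hus q = hG.modelHom hS hus (Mdl.mk' (nb i j k l f)) := by
        show evM s' x u a c q.val = evM s' x u a c (Mdl.mk' (nb i j k l f) : Mdl ty us).val
        rw [Mdl.val_mk' hnb, ← he]
        obtain ⟨h32, b0, b1, b2, b3, b4⟩ := bits_nb i j k l f
        simp [evM, evN, evP, Nat.mod_eq_of_lt h32, Nat.div_eq_of_lt h32, b0, b1, b2, b3, b4]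
      rw [hinj heq, Mdl.val_mk' hnb]
      exact (bits_nb i j k l f).1
    · intro h32
      refine ⟨evM s' x u a c q.val, ?_, rfl⟩
      rw [evM, Nat.mod_eq_of_lt h32, Nat.div_eq_of_lt h32, show evP x u 0 = 1 by simp [evP], mul_one]
      exact hG.ev_mem hS _ _ _ _ _

end Cfsg.Agent.H87.S3344
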