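import Cfsg.Agent.H87.S3344.Model
import Cfsg.Agent.H86.MTwelve.Transport

/-!
The model fixing both quaternion factors, without correction, is the centraliser of a 2-central
involution of the Mathieu group of degree 12.
-/

set_option autoImplicit false

namespace Cfsg.Agent.H87.S3344

/-- The isomorphism onto the labels of the centraliser in the Mathieu group, packed. -/
def mTab : ℕ := 1611509677107471524516175388243500667142940096899914695010111777896944969572796532791762547422799636382254863820244368740171696325803768721360217335783475797408588346009795842634984623982550605927050970884444115316172311709183811156459135776312470252611227162048214799215941917601539329816203071398767334872609715519130356693967255607292529871382837765294239999789310825125074878662421538433195353248324520563812065513883290843807621141596282735401526609081668096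

/-- Its inverse, packed. -/
def mTabInv : ℕ := 1607261045710075971233240361249803003382752336422883641537500658225156203262281015602614165358198938904220743019655192803855619884015633816255620283535353284808722309321568688701877268011801745191966269760000748215894764270887860619963109882162083470890367154130867190676118793752541500707937164242654554663719497272873467416675350886766314428082362493185540693018826219642104928234132797435702576329620761059798570120611564198589474638017845355176109343341194496

lemma mTab_check : ((List.range 192).all fun a =>
    Nat.blt (H86.MTwelve.byteAt mTab a) 192 && Nat.blt (H86.MTwelve.byteAt mTabInv a) 192 && H86.MTwelve.byteAt mTabInv (H86.MTwelve.byteAt mTab a) == a &&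
      (List.range 192).all fun b =>
        H86.MTwelve.byteAt mTab (nmul false false a b) == H86.MTwelve.nmul (H86.MTwelve.byteAt mTab a) (H86.MTwelve.byteAt mTab b)) = true ∧
    H86.MTwelve.byteAt mTab 16 = H86.MTwelve.Data.zN := by
  decide +kernel

lemma mTab_facts {a : ℕ} (ha : a < 192) : H86.MTwelve.byteAt mTab a < 192 ∧ H86.MTwelve.byteAt mTabInv (H86.MTwelve.byteAt mTab a) = a ∧
    ∀ b < 192, H86.MTwelve.byteAt mTab (nmul false false a b) = H86.MTwelve.nmul (H86.MTwelve.byteAt mTab a) (H86.MTwelve.byteAt mTab b) := by
  have h := List.all_eq_true.1 mTab_check.1 a (List.mem_range.2 ha)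
  simp only [Bool.and_eq_true, beq_iff_eq, Nat.blt_eq, List.all_eq_true, List.mem_range] at h
  exact ⟨h.1.1.1, h.1.2, h.2⟩

/-- The isomorphism as a homomorphism. -/
def toMTwelve : Mdl false false →* H86.MTwelve.M :=
  MonoidHom.mk' (fun a => H86.MTwelve.M.mk (H86.MTwelve.byteAt mTab a.val)) fun a b => by
    have ha := mTab_facts a.val_lt
    rw [← H86.MTwelve.M.val_inj, H86.MTwelve.M.mul_val, H86.MTwelve.M.val_mk ha.1,
      H86.MTwelve.M.val_mk (mTab_facts b.val_lt).1, H86.MTwelve.M.val_mk (mTab_facts (a * b).val_lt).1,
      Mdl.mul_val, ha.2.2 _ b.val_lt]

lemma toMTwelve_bijective : Function.Bijective toMTwelve := by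
  refine (Nat.bijective_iff_injective_and_card _).2 ⟨fun a b h => ?_, by rw [Mdl.card, H86.MTwelve.M.card_M]⟩
  have h' : H86.MTwelve.byteAt mTab a.val = H86.MTwelve.byteAt mTab b.val := by
    have h1 := congrArg H86.MTwelve.M.val h
    simp only [toMTwelve, MonoidHom.mk'_apply] at h1
    rwa [H86.MTwelve.M.val_mk (mTab_facts a.val_lt).1, H86.MTwelve.M.val_mk (mTab_facts b.val_lt).1] at h1
  exact Mdl.ext' (by rw [← (mTab_facts a.val_lt).2.1, h', (mTab_facts b.val_lt).2.1])

theorem nonempty_mtwelve_emb {G : Type*} [Group G] {s : G} (E : Mdl.Emb false false s) :
    Nonempty (H86.MTwelve.Emb s) := by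
  let e := MulEquiv.ofBijective toMTwelve toMTwelve_bijective
  refine ⟨⟨E.hom.comp e.symm.toMonoidHom, E.inj.comp e.symm.injective, ?_⟩⟩
  rw [← E.range_eq]
  exact (MonoidHom.range_eq_map _).trans (by
    rw [← Subgroup.map_map, Subgroup.map_top_of_surjective _ e.symm.surjective, ← MonoidHom.range_eq_map])

end Cfsg.Agent.H87.S3344
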