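import Cfsg.Agent.H87.S3344.Local

/-!
In the swap type a conjugate of `s` in a subgroup of order 8 makes its normaliser move `s`.
-/

set_option autoImplicit false

namespace Cfsg.Agent.H87.S3344

open Subgroup PGroups.SmallExtraspecial

variable {G : Type*} [Group G] [Finite G] {s : G} (E : Mdl.Emb true false s)

lemma vset_facts {V : ℕ} (hV : V ∈ vMasks true) {m : Mdl true false} (hm : V.testBit m.val = true)
    (hm1 : m ≠ 1) (hmz : m ≠ Mdl.z) (n : Mdl true false) :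
    V.testBit n.val = true ↔ n * m = m * n ∧ n * n = 1 ∧ cc2 true false m.val n.val ≠ 16 := by
  have h := List.all_eq_true.1 vsetB_all V hV
  simp only [vsetB, List.all_eq_true, List.mem_range, Bool.or_eq_true, Bool.not_eq_true', beq_iff_eq] at h
  have h0 : ¬ m.val = 0 := fun e => hm1 (Mdl.ext' (e.trans Mdl.one_val.symm))
  have h16 : ¬ m.val = 16 := fun e => hmz (Mdl.ext' (e.trans Mdl.z_val.symm))
  have h1 := h m.val ((mask_facts hV).2.2.2 m hm).1
  simp only [hm, Bool.true_eq_false, h0, h16, false_or, List.all_eq_true, List.mem_range, beq_iff_eq] at h1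
  have h2 := h1 n.val n.val_lt
  rw [h2, Bool.and_eq_true, Bool.and_eq_true, Mdl.cm_iff, beq_iff_eq, Bool.not_eq_true', beq_eq_false_iff_ne,
    and_assoc]
  refine and_congr_right fun _ => and_congr_left fun _ => ?_
  rw [← Mdl.one_val (ty := true) (us := false), Mdl.sq_val_iff]

omit [Finite G] in
lemma cc2_le {g : G} {a b n m : Mdl true false} (hb : g * E.hom b * g⁻¹ = s) (ha : g * s * g⁻¹ = E.hom a)
    (hm : E.hom m = g * E.hom n * g⁻¹) : cc2 true false b.val n.val ≤ cc2 true false a.val m.val := by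
  refine E.count_le (g := g) _ _ fun k hk => ?_
  rw [Bool.and_eq_true, Mdl.cm_iff, Mdl.cm_iff] at hk
  obtain ⟨j, hj, he⟩ := E.moved hb ha hk.1
  refine ⟨j, ?_, he⟩
  rw [Bool.and_eq_true, Mdl.cm_iff, Mdl.cm_iff, ← E.comm_iff (a := j) (b := m)]
  refine ⟨hj, ?_⟩
  rw [he, hm]
  exact conj_comm_iff.2 (E.comm_iff.2 hk.2)

/-- The normaliser moves `s`. -/
theorem moved_of_conj {g : G} {a : Mdl true false} (ha : g * s * g⁻¹ = E.hom a) (haz : a ≠ Mdl.z) {V : ℕ}
    (hV : V ∈ vMasks true) (haV : V.testBit a.val = true) :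
    ∃ h ∈ normalizer (vG E V hV : Set G), h * s * h⁻¹ ≠ s := by
  obtain ⟨-, -, b, hb, hbz, W, hW, hbW⟩ := E.conj_mask ha haz ((mask_facts hV).2.2.2 a haV).1
  obtain ⟨-, hs1⟩ := two_iff.1 E.order_two
  have ha1 : a ≠ 1 := fun e => by
    rw [e, map_one] at ha; exact hs1 (conj_eq_one_iff.1 ha)
  have hb1 : b ≠ 1 := fun e => by
    rw [e, map_one, mul_one, mul_inv_cancel] at hb; exact hs1 hb.symm
  obtain ⟨ha', hb'⟩ := E.inv_pair hb ha
  have hmap : ∀ n, W.testBit n.val = true → g * E.hom n * g⁻¹ ∈ vG E V hV := by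
    intro n hn
    obtain ⟨hnb, hnn, hn16⟩ := (vset_facts hW hbW hb1 hbz n).1 hn
    obtain ⟨m, hm, he⟩ := E.moved hb ha hnb
    rw [← he, hom_mem_vG, vset_facts hV haV ha1 haz m]
    refine ⟨hm, E.inj ?_, ?_⟩
    · rw [map_mul, he, map_one, show g * E.hom n * g⁻¹ * (g * E.hom n * g⁻¹) =
        g * (E.hom n * E.hom n) * g⁻¹ by group, ← map_mul, hnn, map_one]
      group
    · intro h16
      refine hn16 (le_antisymm ?_ ?_)
      · exact h16 ▸ cc2_le E hb ha he
      · exact h16 ▸ cc2_le E ha' hb' (by rw [he]; group)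
  have hUeq : (vG E W hW).map (MulAut.conj g).toMonoidHom = vG E V hV := by
    refine eq_of_le_of_card_ge ?_ ?_
    · rintro _ ⟨_, ⟨n, hn, rfl⟩, rfl⟩
      exact hmap n hn
    · rw [card_vG, card_map_of_injective (MulEquiv.injective _), card_vG]
  obtain ⟨l, hl⟩ := exists_noncentral hW hbW hb1 hbz
  refine ⟨g * E.hom l * g⁻¹, mem_normalizer_of_conj_mem fun x hx => ?_, fun e => hl ?_⟩
  · rw [← hUeq] at hx ⊢
    obtain ⟨y, hy, rfl⟩ := hx
    refine ⟨E.hom l * y * (E.hom l)⁻¹,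
      (mem_normalizer_iff.1 (cent_le_normalizer E hW (mem_centralizer_singleton_iff.2 (E.comm l))) y).1 hy, ?_⟩
    show g * (E.hom l * y * (E.hom l)⁻¹) * g⁻¹ = g * E.hom l * g⁻¹ * (g * y * g⁻¹) * (g * E.hom l * g⁻¹)⁻¹
    group
  · have h := mul_inv_eq_iff_eq_mul.1 e
    have h2 : g * E.hom l * g⁻¹ * (g * E.hom b * g⁻¹) = g * E.hom b * g⁻¹ * (g * E.hom l * g⁻¹) := by
      rw [hb]; exact h
    exact E.comm_iff.1 (conj_comm_iff.1 h2)

end Cfsg.Agent.H87.S3344
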