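import Cfsg.Agent.H87.S3344.SimpleMain
import Cfsg.Agent.H87.S3344.Swap
import Cfsg.Agent.H87.S3344.MTwelveIso
import Cfsg.Agent.H86.MTwelve.Order
import Cfsg.Agent.H79.MTwelve.Final
import Cfsg.Agent.H28.M12.ColumnsMain

/-!
The branches ending in the extension of `2³` by `L₃(2)` or in `M₁₂`.
-/

set_option autoImplicit false

namespace Cfsg.Agent.H87.S3344

open Subgroup PGroups.SmallExtraspecial

variable {G : Type*} [Group G] [Finite G] {s : G}

/-- The type of `M₁₂`. -/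
theorem not_swap (E : Mdl.Emb false false s) {g₀ : G} {a₀ : Mdl false false} (ha : g₀ * s * g₀⁻¹ = E.hom a₀)
    (haz : a₀ ≠ Mdl.z) (ha32 : a₀.val < 32) :
    (∃ (N : Subgroup G) (hN : N.Normal), IsMulCommutative N ∧ (∀ n ∈ N, n ^ 2 = 1) ∧ Nat.card N = 8 ∧
        Nonempty (G ⧸ N ≃* Matrix.ProjectiveSpecialLinearGroup (Fin 3) (ZMod 2))) ∨
      Cfsg.Spor.IsoM12 G := by
  by_cases hm : ∃ h ∈ normalizer (vG E mV mV_mem : Set G), h * s * h⁻¹ ≠ s
  · refine Or.inl (psl_branch E mV_mem (sett_of_moved E mV_mem hm) fun k a hk haz' ha' => ?_)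
    obtain ⟨-, ⟨V, hV, hb⟩, -⟩ := E.conj_mask hk haz' ha'
    rw [List.mem_singleton.1 hV] at hb
    exact hb
  · push Not at hm
    obtain ⟨hsimple, hG⟩ := simple_main E ha haz ha32 hm
    haveI := hsimple
    have hG' : ¬ ∀ a b : G, a * b = b * a := fun h => hG ⟨⟨h⟩⟩
    obtain ⟨E'⟩ := nonempty_mtwelve_emb E
    have hM : Cfsg.IsM12 G := ⟨hsimple, E'.card_eq E.order_two hG'⟩
    exact Or.inr (H79.MTwelve.nonempty_mulEquiv_of_columns hM (H28.M12.exists_columns hM)).1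

/-- The swap type with only one subgroup containing conjugates of `s`. -/
theorem swap_single (E : Mdl.Emb true false s) {g₀ : G} {a₀ : Mdl true false}
    (ha : g₀ * s * g₀⁻¹ = E.hom a₀) (haz : a₀ ≠ Mdl.z) {V : ℕ} (hV : V ∈ vMasks true)
    (haV : V.testBit a₀.val = true)
    (honly : ∀ (k : G) (a : Mdl true false), k * s * k⁻¹ = E.hom a → a ≠ Mdl.z → a.val < 32 →
      V.testBit a.val = true) :
    ∃ (N : Subgroup G) (hN : N.Normal), IsMulCommutative N ∧ (∀ n ∈ N, n ^ 2 = 1) ∧ Nat.card N = 8 ∧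
      Nonempty (G ⧸ N ≃* Matrix.ProjectiveSpecialLinearGroup (Fin 3) (ZMod 2)) :=
  psl_branch E hV (sett_of_moved E hV (moved_of_conj E ha haz hV haV)) honly

/-- The Sylow subgroup and the subgroup of order 16 in the swap type. -/
lemma e_facts : eMask.testBit 0 = true ∧ eMask.testBit 16 = true ∧
    (List.range 192).countP (fun n => eMask.testBit n) = 16 := by
  have h := eB_true
  simp only [eB, Bool.and_eq_true, beq_iff_eq] at h
  exact ⟨h.1.1.1.1.1, h.1.1.1.1.2, h.1.1.1.2⟩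

end Cfsg.Agent.H87.S3344
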