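import Cfsg.Agent.H87.S3344.SwapGlobal
import Cfsg.Agent.H87.S3344.Swap
import Cfsg.Agent.H87.S3344.Branches
import Cfsg.Agent.PGroups.SmallExtraspecial.CentData

/-!
The swap type with two fused subgroups of order 8: the configuration and its core.
-/

set_option autoImplicit false

namespace Cfsg.Agent.H87.S3344

open Subgroup PGroups.SmallExtraspecial

variable {G : Type*} [Group G] [Finite G] {s : G}

/-- What the two-fused case hands to the recognition in degree nine. -/
structure BigCase (s : G) where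
  /-- the involution of the second class -/
  x : G
  /-- the first normal subgroup -/
  V₁ : Subgroup G
  /-- the second normal subgroup -/
  V₂ : Subgroup G
  /-- the third normal subgroup -/
  V₃ : Subgroup G
  /-- the subgroup of order 16 -/
  E : Subgroup G
  /-- the Sylow subgroup -/
  T : Subgroup G
  /-- the half of the centraliser -/
  K₀ : Subgroup G
  /-- the element of order three -/
  f : G
  /-- the four of the centraliser -/
  U : Subgroup G
  /-- the four in the component -/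
  W : Subgroup G
  /-- the component -/
  X : Subgroup G
  d : PGroups.SmallExtraspecial.Swap s x V₁ V₂ V₃ E T
  c : d.Core K₀ f U W X
  equiv_X : Nonempty (X ≃* alternatingGroup (Fin 5))
  classes : ∀ t : G, orderOf t = 2 → IsConj s t ∨ IsConj x t
  hfour : ∀ y : G, orderOf y = 3 → y * s = s * y → ¬ 4 ∣ Nat.card (centralizer ({s, y} : Set G))
  pairs : Nat.card {p : G × G // IsConj s p.1 ∧ IsConj x p.2 ∧ s ∈ zpowers (p.1 * p.2)} = 156

/-- Two subgroups containing conjugates of `s`: degree eight, or the big case. -/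
theorem swap_double (E : Mdl.Emb true false s) {j k : ℕ} (hj : j < 3) (hk : k < 3) (hjk : j ≠ k)
    (hmj : ∃ h ∈ normalizer (vG E (mk3 j) (mk3_mem j hj).1 : Set G), h * s * h⁻¹ ≠ s)
    (hmk : ∃ h ∈ normalizer (vG E (mk3 k) (mk3_mem k hk).1 : Set G), h * s * h⁻¹ ≠ s) :
    Nonempty (G ≃* alternatingGroup (Fin 8)) ∨ Nonempty (BigCase s) := by
  obtain ⟨i, hi, hij, hik⟩ : ∃ i, i < 3 ∧ i ≠ j ∧ i ≠ k := by
    by_cases h0 : j ≠ 0 ∧ k ≠ 0
    · exact ⟨0, by norm_num, by omega, by omega⟩
    by_cases h1 : j ≠ 1 ∧ k ≠ 1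
    · exact ⟨1, by norm_num, by omega, by omega⟩
    exact ⟨2, by norm_num, by omega, by omega⟩
  have d := swap_facts E hi hj hk hij hik hjk (sett_of_moved E _ hmj) (sett_of_moved E _ hmk)
  obtain ⟨K₀, f, U, W, X, c⟩ := d.exists_core
  rcases c.shape with h | h
  · exact Or.inl (d.eight_of_small c h)
  · have hall := two_classes hi hj hk hij hik hjk d
    exact Or.inr ⟨⟨_, _, _, _, _, _, K₀, f, U, W, X, d, c, h, hall,
      fun y hy hys => card_cent_three E hy hys, pairs_count hi hj hk hij hik hjk d hall⟩⟩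

lemma mask_index {V : ℕ} (hV : V ∈ vMasks true) : ∃ j, j < 3 ∧ V = mk3 j := by
  simp only [vMasks, cond_true, List.mem_cons, List.not_mem_nil, or_false] at hV
  rcases hV with rfl | rfl | rfl
  exacts [⟨0, by norm_num, rfl⟩, ⟨1, by norm_num, rfl⟩, ⟨2, by norm_num, rfl⟩]

/-- All cases, the big one being left to the recognition in degree nine. -/
theorem reduced (ty us : Bool) (E : Mdl.Emb ty us s) {g₀ : G} {a₀ : Mdl ty us}
    (ha : g₀ * s * g₀⁻¹ = E.hom a₀) (haz : a₀ ≠ Mdl.z) (ha32 : a₀.val < 32) :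
    (∃ (N : Subgroup G) (hN : N.Normal), IsMulCommutative N ∧ (∀ n ∈ N, n ^ 2 = 1) ∧ Nat.card N = 8 ∧
        Nonempty (G ⧸ N ≃* Matrix.ProjectiveSpecialLinearGroup (Fin 3) (ZMod 2))) ∨
    Nonempty (G ≃* alternatingGroup (Fin 8)) ∨ Nonempty (BigCase s) ∨ Cfsg.Spor.IsoM12 G := by
  obtain ⟨rfl, ⟨V, hV, haV⟩, -⟩ := E.conj_mask ha haz ha32
  cases ty
  · rcases not_swap E ha haz ha32 with h | h
    · exact Or.inl h
    · exact Or.inr (Or.inr (Or.inr h))
  by_cases honly : ∀ (k : G) (a : Mdl true false), k * s * k⁻¹ = E.hom a → a ≠ Mdl.z → a.val < 32 →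
      V.testBit a.val = true
  · exact Or.inl (swap_single E ha haz hV haV honly)
  push Not at honly
  obtain ⟨g₁, a₁, ha₁, ha₁z, ha₁32, ha₁V⟩ := honly
  obtain ⟨-, ⟨W, hW, haW⟩, -⟩ := E.conj_mask ha₁ ha₁z ha₁32
  obtain ⟨j, hj, rfl⟩ := mask_index hV
  obtain ⟨k, hk, rfl⟩ := mask_index hW
  have hjk : j ≠ k := by
    rintro rfl
    exact ha₁V haW
  rcases swap_double E hj hk hjk (moved_of_conj E ha haz hV haV) (moved_of_conj E ha₁ ha₁z hW haW) with h | h
  · exact Or.inr (Or.inl h)
  · exact Or.inr (Or.inr (Or.inl h))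

end Cfsg.Agent.H87.S3344
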