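import Mathlib

/-!
An extraspecial group of order 32 with an element of order three fixing only the centre and an
involutory semilinear automorphism: generators and relations.
-/

set_option autoImplicit false

namespace Cfsg.Agent.H87.S3344

/-- An element or the identity. -/
def pw {L : Type*} [Group L] (g : L) (e : Bool) : L := bif e then g else 1

/-- The working hypotheses inside `L`. -/
structure Setup {L : Type*} [Group L] (Q : Subgroup L) (s x u : L) : Prop where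
  normal : Q.Normal
  card : Nat.card Q = 32
  s2 : s * s = 1
  s1 : s ≠ 1
  sQ : s ∈ Q
  cs : ∀ g : L, g * s = s * g
  sq : ∀ q ∈ Q, q * q = 1 ∨ q * q = s
  comm : ∀ q ∈ Q, ∀ r ∈ Q, r * q = q * r ∨ r * q = q * r * s
  centre : ∀ q ∈ Q, (∀ r ∈ Q, q * r = r * q) → q = 1 ∨ q = s
  x3 : x * x * x = 1
  x1 : x ≠ 1
  fix : ∀ q ∈ Q, x * q = q * x → q = 1 ∨ q = s
  ux : u * x * u⁻¹ = x * x
  uu : u * u = 1 ∨ u * u = s

/-- Generators with the relations of a model. -/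
structure Gens {L : Type*} [Group L] (Q : Subgroup L) (s x u : L) (D B : Bool) (a c : L) : Prop where
  aQ : a ∈ Q
  cQ : c ∈ Q
  a_x : x * (x * a * x⁻¹) * x⁻¹ = a * (x * a * x⁻¹)
  c_x : x * (x * c * x⁻¹) * x⁻¹ = c * (x * c * x⁻¹)
  a_u : u * a * u⁻¹ = a * pw s D
  c_u : u * c * u⁻¹ = c * pw s D
  a2 : a * a = pw s D
  c2 : c * c = pw s D
  ba : x * a * x⁻¹ * a = a * (x * a * x⁻¹) * pw s D
  dc : x * c * x⁻¹ * c = c * (x * c * x⁻¹) * pw s D
  ca : c * a = a * c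
  db : x * c * x⁻¹ * (x * a * x⁻¹) = x * a * x⁻¹ * (x * c * x⁻¹)
  da : x * c * x⁻¹ * a = a * (x * c * x⁻¹) * pw s B
  cb : c * (x * a * x⁻¹) = x * a * x⁻¹ * c * pw s B

namespace Setup

variable {L : Type*} [Group L] {Q : Subgroup L} {s x u : L} (h : Setup Q s x u)
include h

lemma mem_conj (g : L) {q : L} (hq : q ∈ Q) : g * q * g⁻¹ ∈ Q := h.normal.conj_mem q hq g

lemma mem_pw (e : Bool) : pw s e ∈ Q := by cases e <;> [exact one_mem Q; exact h.sQ]

lemma pw_comm (e : Bool) (g : L) : g * pw s e = pw s e * g := by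
  cases e <;> [simp [pw]; exact h.cs g]

lemma pw_mul (e f : Bool) : pw s e * pw s f = pw s (e ^^ f) := by
  cases e <;> cases f <;> simp [pw, h.s2]

lemma pw_self (e : Bool) : pw s e * pw s e = 1 := by cases e <;> simp [pw, h.s2]

lemma pw_inj {e f : Bool} (he : pw s e = pw s f) : e = f := by
  have := h.s1
  cases e <;> cases f <;> simp_all [pw, eq_comm]

lemma mul_pw_cancel {g k : L} {e : Bool} (hg : g = k * pw s e) : k = g * pw s e := by
  rw [hg, mul_assoc, h.pw_self, mul_one]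

lemma exists_sq {q : L} (hq : q ∈ Q) : ∃ e, q * q = pw s e := by
  rcases h.sq q hq with e | e
  · exact ⟨false, e⟩
  · exact ⟨true, e⟩

lemma inv_eq {q : L} {e : Bool} (hq : q * q = pw s e) : q⁻¹ = q * pw s e := by
  apply inv_eq_of_mul_eq_one_right
  rw [← mul_assoc, hq, h.pw_self]

lemma exists_comm {q r : L} (hq : q ∈ Q) (hr : r ∈ Q) : ∃ e, r * q = q * r * pw s e := by
  rcases h.comm q hq r hr with e | e
  · exact ⟨false, by simpa [pw] using e⟩
  · exact ⟨true, e⟩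

lemma conj_pw (g : L) (e : Bool) : g * pw s e * g⁻¹ = pw s e := by
  rw [h.pw_comm, mul_inv_cancel_right]

lemma conj_mul_pw (g k : L) (e : Bool) : g * (k * pw s e) * g⁻¹ = g * k * g⁻¹ * pw s e := by
  rw [show g * (k * pw s e) * g⁻¹ = g * k * g⁻¹ * (g * pw s e * g⁻¹) by group, h.conj_pw]

/-- The norm of `x` lies in the centre. -/
lemma norm_mem {y : L} (hy : y ∈ Q) :
    ∃ e, x * (x * y * x⁻¹) * x⁻¹ = y * (x * y * x⁻¹) * pw s e := by
  set y1 := x * y * x⁻¹ with hy1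
  set y2 := x * y1 * x⁻¹ with hy2
  have q1 : y1 ∈ Q := h.mem_conj x hy
  have q2 : y2 ∈ Q := h.mem_conj x q1
  set N := y * y1 * y2 with hN
  have hNQ : N ∈ Q := mul_mem (mul_mem hy q1) q2
  have h3 : x * y2 * x⁻¹ = y := by
    rw [hy2, hy1, show x * (x * (x * y * x⁻¹) * x⁻¹) * x⁻¹ = x * x * x * y * (x * x * x)⁻¹ by group, h.x3]
    group
  have hσ : x * N * x⁻¹ = y⁻¹ * N * y := by
    rw [hN, show x * (y * y1 * y2) * x⁻¹ = x * y * x⁻¹ * (x * y1 * x⁻¹) * (x * y2 * x⁻¹) by group, h3,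
      ← hy1, ← hy2]
    group
  obtain ⟨e, he⟩ := h.exists_comm hy hNQ
  have hσ' : x * N * x⁻¹ = N * pw s e := by
    rw [hσ, mul_assoc, he, mul_assoc, inv_mul_cancel_left]
  have e0 : e = false := by
    have h2 : x * (x * (x * N * x⁻¹) * x⁻¹) * x⁻¹ = N * pw s e := by
      simp only [hσ', h.conj_mul_pw, mul_assoc, h.pw_self, mul_one]
    rw [show x * (x * (x * N * x⁻¹) * x⁻¹) * x⁻¹ = x * x * x * N * (x * x * x)⁻¹ by group, h.x3, one_mul,
      inv_one, mul_one] at h2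
    exact h.pw_inj ((left_eq_mul.1 h2).trans (by simp [pw]) : pw s e = pw s false)
  rw [e0, show pw s false = (1 : L) from rfl, mul_one] at hσ'
  obtain ⟨f, hf⟩ := h.exists_sq (mul_mem hy q1)
  rcases h.fix N hNQ (mul_inv_eq_iff_eq_mul.1 hσ') with h1 | h1
  · exact ⟨f, by rw [← h.inv_eq hf]; exact (inv_eq_of_mul_eq_one_right h1).symm⟩
  · refine ⟨!f, ?_⟩
    rw [show y * y1 * pw s (!f) = (y * y1)⁻¹ * s by
      rw [h.inv_eq hf, mul_assoc (y * y1)]; cases f <;> simp [pw, h.s2]]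
    rw [← h1, hN]
    group

/-- The coset of a lift contains one on which `x` behaves exactly. -/
lemma exists_lift {y : L} (hy : y ∈ Q) (hu : ∃ e, u * y * u⁻¹ = y * pw s e) :
    ∃ a e, a = y * pw s e ∧ a ∈ Q ∧ x * (x * a * x⁻¹) * x⁻¹ = a * (x * a * x⁻¹) ∧
      u * a * u⁻¹ = a * (a * a) := by
  obtain ⟨e, he⟩ := h.norm_mem hy
  obtain ⟨a, ha⟩ : ∃ a, a = y * pw s e := ⟨_, rfl⟩
  refine ⟨a, e, ha, ha ▸ mul_mem hy (h.mem_pw e), ?_⟩
  have hax : x * (x * a * x⁻¹) * x⁻¹ = a * (x * a * x⁻¹) := by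
    rw [ha, h.conj_mul_pw, h.conj_mul_pw, he]
    rw [show y * pw s e * (x * y * x⁻¹ * pw s e) = y * (pw s e * (x * y * x⁻¹)) * pw s e by group,
      ← h.pw_comm, mul_assoc y (x * y * x⁻¹) (pw s e)]
  refine ⟨hax, ?_⟩
  obtain ⟨d, hd⟩ := hu
  have hua : u * a * u⁻¹ = a * pw s d := by
    rw [ha, h.conj_mul_pw, hd, mul_assoc, mul_assoc, h.pw_comm]
  have key := congrArg (fun g => u * g * u⁻¹) hax
  have hux : u * x = x * x * u := by rw [← h.ux]; group
  have hux' : x⁻¹ * u⁻¹ = u⁻¹ * (x * x)⁻¹ := by rw [← mul_inv_rev, hux, mul_inv_rev]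
  have hxx : x * x * (x * x) = x := by rw [show x * x * (x * x) = x * x * x * x by group, h.x3, one_mul]
  have l : ∀ g : L, u * (x * g * x⁻¹) * u⁻¹ = x * x * (u * g * u⁻¹) * (x * x)⁻¹ := fun g => by
    calc u * (x * g * x⁻¹) * u⁻¹ = u * x * g * (x⁻¹ * u⁻¹) := by group
      _ = _ := by rw [hux, hux']; group
  rw [l, l, show u * (a * (x * a * x⁻¹)) * u⁻¹ = u * a * u⁻¹ * (u * (x * a * x⁻¹) * u⁻¹) by group, l,
    hua, show x * x * (x * x * (a * pw s d) * (x * x)⁻¹) * (x * x)⁻¹ =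
      x * x * (x * x) * (a * pw s d) * (x * x * (x * x))⁻¹ by group, hxx, h.conj_mul_pw, h.conj_mul_pw,
    show x * x * a * (x * x)⁻¹ = x * (x * a * x⁻¹) * x⁻¹ by group, hax] at key
  have hk : a * pw s d * (a * (x * a * x⁻¹) * pw s d) = a * a * (x * a * x⁻¹) := by
    calc a * pw s d * (a * (x * a * x⁻¹) * pw s d) = a * (pw s d * (a * (x * a * x⁻¹))) * pw s d := by group
      _ = a * (a * (x * a * x⁻¹)) * (pw s d * pw s d) := by rw [← h.pw_comm]; group
      _ = _ := by rw [h.pw_self]; group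
  rw [hk, h.pw_comm] at key
  rw [hua, mul_right_cancel key]

lemma exists_fixed (A : Finset L) (hA : A.card ≤ 4) [Finite L] :
    ∃ f ∈ Q, f ∉ A ∧ ∃ e, u * f * u⁻¹ = f * pw s e := by
  classical
  by_contra hne
  push Not at hne
  have hin : ∀ f ∈ Q, (∃ e, u * f * u⁻¹ = f * pw s e) → f ∈ A := fun f hf ⟨e, he⟩ =>
    by_contra fun hfA => hne f hf hfA e he
  have := Fintype.ofFinite L
  set S : Finset L := Finset.univ.filter (· ∈ Q) with hS
  have hS32 : S.card = 32 := by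
    rw [← h.card, Nat.card_eq_fintype_card, Fintype.card_subtype]
  have huu : ∀ g : L, u * (u * g * u⁻¹) * u⁻¹ = g := fun g => by
    rw [show u * (u * g * u⁻¹) * u⁻¹ = u * u * g * (u * u)⁻¹ by group]
    rcases h.uu with e | e <;> rw [e]
    · group
    · rw [← h.cs, mul_inv_cancel_right]
  let φ : L → L := fun y => y * (u * y * u⁻¹)
  have himg : (S.image φ) ⊆ A := by
    intro z hz
    obtain ⟨y, hy, rfl⟩ := Finset.mem_image.1 hz
    have hy' : y ∈ Q := (Finset.mem_filter.1 hy).2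
    obtain ⟨e, he⟩ := h.exists_comm hy' (h.mem_conj u hy')
    refine hin _ (mul_mem hy' (h.mem_conj u hy')) ⟨e, ?_⟩
    show u * (y * (u * y * u⁻¹)) * u⁻¹ = y * (u * y * u⁻¹) * pw s e
    rw [show u * (y * (u * y * u⁻¹)) * u⁻¹ = u * y * u⁻¹ * (u * (u * y * u⁻¹) * u⁻¹) by group, huu, he]
  have hfib : ∀ b ∈ S.image φ, (S.filter (φ · = b)).card ≤ 4 := by
    intro b hb
    obtain ⟨z, hz, rfl⟩ := Finset.mem_image.1 hb
    have hz' : z ∈ Q := (Finset.mem_filter.1 hz).2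
    refine le_trans (Finset.card_le_card_of_injOn (fun y => y * z⁻¹) (fun y hy => ?_)
      (fun y _ y' _ e => mul_right_cancel e)) hA
    rw [Finset.mem_coe, Finset.mem_filter] at hy
    have hy' : y ∈ Q := (Finset.mem_filter.1 hy.1).2
    have heq : y * (u * y * u⁻¹) = z * (u * z * u⁻¹) := hy.2
    obtain ⟨e1, h1⟩ := h.exists_sq hy'
    obtain ⟨e2, h2⟩ := h.exists_sq hz'
    refine hin _ (mul_mem hy' (inv_mem hz')) ⟨e1 ^^ e2, ?_⟩
    have h3 : u * (y * z⁻¹) * u⁻¹ = y⁻¹ * z := by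
      calc u * (y * z⁻¹) * u⁻¹ = y⁻¹ * (y * (u * y * u⁻¹)) * (u * z * u⁻¹)⁻¹ := by group
        _ = y⁻¹ * z := by rw [heq]; group
    rw [h3, h.inv_eq h1, h.inv_eq h2, ← h.pw_mul]
    calc y * pw s e1 * z = y * (pw s e1 * z) := mul_assoc _ _ _
      _ = y * z * pw s e1 := by rw [← h.pw_comm, mul_assoc]
      _ = y * (z * pw s e2) * (pw s e1 * pw s e2) := by
        rw [h.pw_comm (e1) (pw s e2) |>.symm]
        simp only [mul_assoc]
        rw [← mul_assoc (pw s e2), h.pw_self, one_mul]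
  have h32 := le_trans (Finset.card_le_mul_card_image S 4 hfib)
    (Nat.mul_le_mul_left 4 (le_trans (Finset.card_le_card himg) hA))
  omega

end Setup

end Cfsg.Agent.H87.S3344
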