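import Cfsg.Agent.H87.S3344.Model

/-!
Facts about the models, checked by evaluation: involution classes, counts in their centralisers, the normal
elementary abelian subgroups of order 8 and the Sylow 2-subgroup.
-/

set_option autoImplicit false

namespace Cfsg.Agent.H87.S3344

/-- Commuting labels. -/
def cmB (ty us : Bool) (a b : ℕ) : Bool := nmul ty us a b == nmul ty us b a

/-- Involution labels other than the central one. -/
def ivB (ty us : Bool) (m : ℕ) : Bool := nmul ty us m m == 0 && !(m == 0) && !(m == 16)

/-- The order of the centraliser of a label. -/
def cc (ty us : Bool) (m : ℕ) : ℕ := (List.range 192).countP fun g => cmB ty us g m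

/-- The number of square roots of `k` in the centraliser of `m`. -/
def sqc (ty us : Bool) (m k : ℕ) : ℕ :=
  (List.range 192).countP fun g => cmB ty us g m && nmul ty us g g == k

/-- The order of the centraliser of two labels. -/
def cc2 (ty us : Bool) (m n : ℕ) : ℕ :=
  (List.range 192).countP fun g => cmB ty us g m && cmB ty us g n

/-- The normal elementary abelian subgroups of order 8, as masks. -/
def vMasks (ty : Bool) : List ℕ := bif ty then [983055, 286331153, 2216789025] else [2216789025]

/-- The labels of a Sylow 2-subgroup. -/
def tB (n : ℕ) : Bool := n / 32 == 0 || n / 32 == 3

/-- The elementary abelian subgroup of order 16, as a mask. -/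
def eMask : ℕ := 264811180421564436536272583535034419

/-- Classification of the involutions when the correction is present. -/
def classB₁ (ty : Bool) (m : ℕ) : Bool :=
  !ivB ty true m || ((cc ty true m == 32 && sqc ty true m m == 4 && sqc ty true m 16 == 12) ||
    (cc ty true m == 16 && sqc ty true m m == 0 && sqc ty true m 16 == 4))

/-- Classification of the involutions of the model of type `A₈`. -/
def classB₂ (m : ℕ) : Bool :=
  !ivB true false m || bif Nat.blt m 32 then cc true false m == 32 && (vMasks true).any (fun V => V.testBit m)
    else cc true false m == 16

/-- Classification of the involutions of the model of type `M₁₂`. -/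
def classB₃ (m : ℕ) : Bool :=
  !ivB false false m || bif Nat.blt m 32 then
    ((cc false false m == 32 && (vMasks false).any fun V => V.testBit m) ||
      (cc false false m == 16 && sqc false false m m == 0 && sqc false false m 16 == 4))
    else cc false false m == 8

lemma classB₁_all : ([false, true].all fun ty => (List.range 192).all (classB₁ ty)) = true := by
  decide +kernel

lemma classB₂_all : (List.range 192).all classB₂ = true := by decide +kernel

lemma classB₃_all : (List.range 192).all classB₃ = true := by decide +kernel

/-- The properties of a mask as a subgroup. -/
def subB (ty us : Bool) (V : ℕ) : Bool :=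
  V.testBit 0 && V.testBit 16 && (List.range 192).countP (fun n => V.testBit n) == 8 &&
    (List.range 192).all fun v => !V.testBit v || (Nat.blt v 32 && nmul ty us v v == 0 &&
      (List.range 192).all fun g => V.testBit (nmul ty us (nmul ty us g v) (ninv ty us g)) &&
        (!V.testBit g || V.testBit (nmul ty us v g)) &&
        (!(nmul ty us (nmul ty us g g) g == 0) || g == 0 || !cmB ty us g v || v == 0 || v == 16))

/-- Self-centralising, transitivity and the shape of the action. -/
def actB (ty us : Bool) (V : ℕ) : Bool :=
  ((List.range 192).all fun g =>
    (V.testBit g || (List.range 192).any fun v => V.testBit v && !cmB ty us g v) &&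
    (Nat.blt g 32 || (List.range 192).any fun v => V.testBit v &&
      !(nmul ty us v (nmul ty us (nmul ty us g v) (ninv ty us g)) == 0) &&
      !(nmul ty us v (nmul ty us (nmul ty us g v) (ninv ty us g)) == 16))) &&
  ((List.range 32).all fun v => !V.testBit v || v == 0 || v == 16 || (List.range 32).all fun w =>
    !V.testBit w || w == 0 || w == 16 ||
      (List.range 192).any fun g => nmul ty us (nmul ty us g v) (ninv ty us g) == w) &&
  ((List.range 32).any fun w => ivB ty us w && !V.testBit w)

lemma subB_all : ([false, true].all fun ty => (vMasks ty).all (subB ty false)) = true := by decide +kernel

lemma actB_all : ([false, true].all fun ty => (vMasks ty).all (actB ty false)) = true := by decide +kernel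

/-- In the swap type the subgroup of a label is determined by the centraliser orders. -/
def vsetB (V : ℕ) : Bool :=
  (List.range 32).all fun m => !V.testBit m || m == 0 || m == 16 || (List.range 192).all fun n =>
    V.testBit n == (cmB true false n m && nmul true false n n == 0 && !(cc2 true false m n == 16))

lemma vsetB_all : (vMasks true).all vsetB = true := by decide +kernel

lemma meet_check : ((vMasks true).all fun V => (vMasks true).all fun W => V == W ||
    (List.range 192).all fun n => !(V.testBit n && W.testBit n) || n == 0 || n == 16) = true := by
  decide +kernel

lemma center_check : ([false, true].all fun ty => (List.range 192).all fun z => !tB z || z == 0 || z == 16 ||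
    (List.range 192).any fun t => tB t && !cmB ty false t z) = true := by
  decide +kernel

lemma t_check : ([false, true].all fun ty => tB 0 && tB 16 && (List.range 192).countP tB == 64 &&
    (List.range 192).all fun a => !tB a || (List.range 192).all fun b => !tB b || tB (nmul ty false a b)) = true := by
  decide +kernel

/-- The properties of the subgroup of order 16. -/
def eB : Bool :=
  eMask.testBit 0 && eMask.testBit 16 && (List.range 192).countP (fun n => eMask.testBit n) == 16 &&
    ((List.range 192).all fun a => !eMask.testBit a || (tB a && nmul true false a a == 0 &&
      (List.range 192).all fun b => (!eMask.testBit b || eMask.testBit (nmul true false a b)) &&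
        (!tB b || eMask.testBit (nmul true false (nmul true false b a) (ninv true false b))))) &&
    ((List.range 192).all fun x => !(tB x && nmul true false x x == 0) || eMask.testBit x ||
      Nat.blt ((List.range 192).countP fun y => tB y && nmul true false y y == 0 && cmB true false y x) 16) &&
    (vMasks true).all fun V => (List.range 192).countP (fun n => V.testBit n && eMask.testBit n) == 4

lemma eB_true : eB = true := by decide +kernel

/-- The commutator of two labels. -/
def comB (ty us : Bool) (a b : ℕ) : ℕ :=
  nmul ty us (nmul ty us (nmul ty us a b) (ninv ty us a)) (ninv ty us b)

/-- Steps showing that a normal subgroup containing the centre and a 2-element outside `Q` is everything. -/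
def gensB : Bool :=
  ((List.range 192).all fun y => y / 32 == 0 || (!(y / 32 == 1) && !(y / 32 == 2)) ||
    [1, 4].all fun t => (List.range 32).any fun q =>
      comB false false y q == t || comB false false y q == nmul false false t 16) &&
  ((List.range 192).all fun n => Nat.blt n 96 ||
    (comB false false n 32 / 32 == 1 || comB false false n 32 / 32 == 2)) &&
  ((List.range 192).all fun n => nmul false false (n % 32) (32 * (n / 32)) == n) &&
  ((List.range 192).all fun n => Nat.blt n 32 || Nat.ble 96 n ||
    !(nmul false false (nmul false false (nmul false false n n) (nmul false false n n))
      (nmul false false (nmul false false n n) (nmul false false n n)) == 0)) &&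
  (nmul false false (nmul false false 32 1) (ninv false false 32) == 2) &&
  (nmul false false (nmul false false 32 4) (ninv false false 32) == 8) &&
  (nmul false false 32 32 == 64)

lemma gensB_true : gensB = true := by decide +kernel

end Cfsg.Agent.H87.S3344
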