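import Cfsg.Agent.H87.S3344.Facts
import Cfsg.Agent.PGroups.SmallExtraspecial.Exit

/-!
Fusion of involutions from an embedding of a model: classes, the normal elementary abelian subgroups of order 8.
-/

set_option autoImplicit false

namespace Cfsg.Agent.H87.S3344

open Subgroup

namespace Mdl

variable {ty us : Bool}

lemma nat_card_filter (p : ℕ → Bool) :
    Nat.card {n : Mdl ty us // p n.val = true} = (List.range 192).countP p := by
  classical
  rw [Nat.card_eq_fintype_card, Fintype.card_subtype,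
    ← Finset.card_map ⟨fun n : Mdl ty us => n.val, fun a b h => ext' h⟩,
    show (Finset.univ.filter fun n : Mdl ty us => p n.val = true).map
      ⟨fun n : Mdl ty us => n.val, fun a b h => ext' h⟩ = (Finset.range 192).filter (fun k => p k = true) from ?_]
  · rw [List.countP_eq_length_filter]
    show ((List.range 192).filter fun b => decide (p b = true)).length = _
    simp
  · ext k
    simp only [Finset.mem_map, Finset.mem_filter, Finset.mem_univ, true_and, Finset.mem_range,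
      Function.Embedding.coeFn_mk]
    constructor
    · rintro ⟨n, hn, rfl⟩; exact ⟨n.val_lt, hn⟩
    · rintro ⟨hk, hp⟩; exact ⟨(mk' k : Mdl ty us), by rwa [val_mk' (ty := ty) (us := us) hk], val_mk' (ty := ty) (us := us) hk⟩

lemma cm_iff {a b : Mdl ty us} : cmB ty us a.val b.val = true ↔ a * b = b * a := by
  rw [cmB, beq_iff_eq, ← mul_val, ← mul_val]
  exact ⟨ext', congrArg val⟩

lemma z_val : (z : Mdl ty us).val = 16 := val_mk' (by norm_num)

lemma sq_val_iff {a b : Mdl ty us} : nmul ty us a.val a.val = b.val ↔ a * a = b := by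
  rw [← mul_val]
  exact ⟨ext', congrArg val⟩

lemma iv_iff {a : Mdl ty us} : ivB ty us a.val = true ↔ a * a = 1 ∧ a ≠ 1 ∧ a ≠ z := by
  have h1 : ¬ a.val = 0 ↔ a ≠ 1 := not_congr ⟨fun h => ext' (h.trans one_val.symm), fun h => h ▸ one_val⟩
  have h2 : ¬ a.val = 16 ↔ a ≠ z := not_congr ⟨fun h => ext' (h.trans z_val.symm), fun h => h ▸ z_val⟩
  rw [← sq_val_iff, one_val, ← h1, ← h2]
  simp [ivB, and_assoc]

lemma conj_val (g v : Mdl ty us) :
    (g * v * g⁻¹).val = nmul ty us (nmul ty us g.val v.val) (ninv ty us g.val) := by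
  rw [mul_val, mul_val, inv_val]

lemma comm_val (a b : Mdl ty us) : (a * b * a⁻¹ * b⁻¹).val = comB ty us a.val b.val := by
  rw [comB, mul_val, mul_val, mul_val, inv_val, inv_val]

end Mdl

section Masks

variable {ty : Bool} {V : ℕ}

lemma sub_facts (hV : V ∈ vMasks ty) : subB ty false V = true :=
  List.all_eq_true.1 (List.all_eq_true.1 subB_all ty (by cases ty <;> simp)) V hV

lemma act_facts (hV : V ∈ vMasks ty) : actB ty false V = true :=
  List.all_eq_true.1 (List.all_eq_true.1 actB_all ty (by cases ty <;> simp)) V hV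

lemma mask_facts (hV : V ∈ vMasks ty) : V.testBit 0 = true ∧ V.testBit 16 = true ∧
    (List.range 192).countP (fun n => V.testBit n) = 8 ∧ ∀ v : Mdl ty false, V.testBit v.val = true →
      v.val < 32 ∧ v * v = 1 ∧ ∀ g : Mdl ty false, V.testBit (g * v * g⁻¹).val = true ∧
        (V.testBit g.val = true → V.testBit (v * g).val = true) ∧
        (g * g * g = 1 → g ≠ 1 → g * v = v * g → v = 1 ∨ v = Mdl.z) := by
  have h := sub_facts hV
  simp only [subB, Bool.and_eq_true, beq_iff_eq, List.all_eq_true, List.mem_range] at h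
  obtain ⟨⟨⟨h0, h16⟩, h8⟩, h⟩ := h
  refine ⟨h0, h16, h8, fun v hv => ?_⟩
  have hh := h v.val v.val_lt
  simp only [hv, Bool.not_true, Bool.false_or, Bool.and_eq_true, beq_iff_eq, Nat.blt_eq, List.all_eq_true,
    List.mem_range] at hh
  obtain ⟨⟨h32, hsq⟩, hh⟩ := hh
  refine ⟨h32, Mdl.sq_val_iff.1 (hsq.trans Mdl.one_val.symm), fun g => ?_⟩
  obtain ⟨⟨hc, hm⟩, hf⟩ := hh g.val g.val_lt
  refine ⟨(Mdl.conj_val g v).symm ▸ hc, fun hg => ?_, fun g3 g1 hgv => ?_⟩
  · rw [Mdl.mul_val]; simpa [hg] using hm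
  · have e3 : nmul ty false (nmul ty false g.val g.val) g.val = 0 := by
      rw [← Mdl.mul_val, ← Mdl.mul_val, g3, Mdl.one_val]
    have e1 : ¬ g.val = 0 := fun e => g1 (Mdl.ext' (e.trans Mdl.one_val.symm))
    simp only [e3, Mdl.cm_iff.2 hgv, beq_self_eq_true, Bool.not_true, Bool.false_or, Bool.or_eq_true,
      beq_iff_eq, e1, false_or] at hf
    rcases hf with hf | hf
    · rcases hf with hf | hf
      · simp at hf
      · exact Or.inl (Mdl.ext' (hf.trans Mdl.one_val.symm))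
    · exact Or.inr (Mdl.ext' (hf.trans Mdl.z_val.symm))

/-- A mask as a subgroup of the model. -/
def vSub (V : ℕ) (hV : V ∈ vMasks ty) : Subgroup (Mdl ty false) where
  carrier := {n | V.testBit n.val = true}
  mul_mem' {a b} ha hb := (((mask_facts hV).2.2.2 a ha).2.2 b).2.1 hb
  one_mem' := by show V.testBit (1 : Mdl ty false).val = true; rw [Mdl.one_val]; exact (mask_facts hV).1
  inv_mem' {a} ha := by
    show V.testBit (a⁻¹).val = true
    rwa [inv_eq_of_mul_eq_one_right ((mask_facts hV).2.2.2 a ha).2.1]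

lemma card_vSub (hV : V ∈ vMasks ty) : Nat.card (vSub V hV) = 8 :=
  (Mdl.nat_card_filter (ty := ty) (us := false) fun n => V.testBit n).trans (mask_facts hV).2.2.1

lemma self_cent (hV : V ∈ vMasks ty) {g : Mdl ty false}
    (hg : ∀ v, V.testBit v.val = true → g * v = v * g) : V.testBit g.val = true := by
  have h := act_facts hV
  simp only [actB, Bool.and_eq_true, List.all_eq_true, List.mem_range] at h
  have h1 := (h.1.1 g.val g.val_lt).1
  rw [Bool.or_eq_true, List.any_eq_true] at h1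
  refine h1.resolve_right fun ⟨v, hv, hv'⟩ => ?_
  rw [Bool.and_eq_true, Bool.not_eq_true'] at hv'
  have hvl := List.mem_range.1 hv
  have := hg (Mdl.mk' v) (by rw [Mdl.val_mk' hvl]; exact hv'.1)
  rw [← Mdl.cm_iff, Mdl.val_mk' hvl, hv'.2] at this
  exact Bool.false_ne_true this

lemma low_of_comm (hV : V ∈ vMasks ty) {g : Mdl ty false}
    (hg : ∀ v, V.testBit v.val = true → v * (g * v * g⁻¹) = 1 ∨ v * (g * v * g⁻¹) = Mdl.z) : g.val < 32 := by
  have h := act_facts hV
  simp only [actB, Bool.and_eq_true, List.all_eq_true, List.mem_range] at h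
  have h1 := (h.1.1 g.val g.val_lt).2
  rw [Bool.or_eq_true, List.any_eq_true, Nat.blt_eq] at h1
  refine h1.resolve_right fun ⟨v, hv, hv'⟩ => ?_
  simp only [Bool.and_eq_true, Bool.not_eq_true', beq_eq_false_iff_ne] at hv'
  have hvl := List.mem_range.1 hv
  rcases hg (Mdl.mk' v) (by rw [Mdl.val_mk' hvl]; exact hv'.1.1) with e | e <;>
    have e' := congrArg Mdl.val e <;> rw [Mdl.mul_val, Mdl.conj_val, Mdl.val_mk' hvl] at e'
  · exact hv'.1.2 (e'.trans Mdl.one_val)
  · exact hv'.2 (e'.trans Mdl.z_val)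

lemma conj_of_mask (hV : V ∈ vMasks ty) {v w : Mdl ty false} (hv : V.testBit v.val = true)
    (hw : V.testBit w.val = true) (hv1 : v ≠ 1) (hvz : v ≠ Mdl.z) (hw1 : w ≠ 1) (hwz : w ≠ Mdl.z) :
    ∃ g : Mdl ty false, g * v * g⁻¹ = w := by
  have h := act_facts hV
  simp only [actB, Bool.and_eq_true, List.all_eq_true, List.mem_range, Bool.or_eq_true, Bool.not_eq_true',
    beq_iff_eq] at h
  have nv : ∀ {u : Mdl ty false}, u ≠ 1 → u ≠ Mdl.z → ¬ u.val = 0 ∧ ¬ u.val = 16 := fun h1 h2 =>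
    ⟨fun e => h1 (Mdl.ext' (e.trans Mdl.one_val.symm)), fun e => h2 (Mdl.ext' (e.trans Mdl.z_val.symm))⟩
  have h2 := h.1.2 v.val ((mask_facts hV).2.2.2 v hv).1
  simp only [hv, Bool.true_eq_false, (nv hv1 hvz).1, (nv hv1 hvz).2, false_or, List.all_eq_true, List.mem_range,
    Bool.or_eq_true, Bool.not_eq_true', beq_iff_eq] at h2
  have h3 := h2 w.val ((mask_facts hV).2.2.2 w hw).1
  simp only [hw, Bool.true_eq_false, (nv hw1 hwz).1, (nv hw1 hwz).2, false_or, List.any_eq_true,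
    beq_iff_eq] at h3
  obtain ⟨g, hg, e⟩ := h3
  refine ⟨Mdl.mk' g, Mdl.ext' ?_⟩
  rw [Mdl.conj_val, Mdl.val_mk' (List.mem_range.1 hg)]
  exact e

lemma exists_outer (hV : V ∈ vMasks ty) :
    ∃ w : Mdl ty false, w * w = 1 ∧ w ≠ 1 ∧ V.testBit w.val = false := by
  have h := act_facts hV
  simp only [actB, Bool.and_eq_true, List.any_eq_true, Bool.not_eq_true'] at h
  obtain ⟨w, hw, hiv, hV'⟩ := h.2
  have hl : w < 192 := lt_trans (List.mem_range.1 hw) (by norm_num)
  have := Mdl.iv_iff.1 ((Mdl.val_mk' (ty := ty) (us := false) hl).symm ▸ hiv)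
  exact ⟨Mdl.mk' w, this.1, this.2.1, (Mdl.val_mk' hl).symm ▸ hV'⟩

lemma exists_noncentral (hV : V ∈ vMasks ty) {b : Mdl ty false} (hb : V.testBit b.val = true) (hb1 : b ≠ 1)
    (hbz : b ≠ Mdl.z) : ∃ l : Mdl ty false, l * b ≠ b * l := by
  by_contra hne
  push Not at hne
  obtain ⟨w, hw2, hw1, -⟩ := exists_outer hV
  have h := ((mask_facts hV).2.2.2 b hb).2.2 (Mdl.mk' 32)
  have h32 : ((Mdl.mk' 32 : Mdl ty false) * Mdl.mk' 32 * Mdl.mk' 32 = 1) := by
    refine Mdl.ext' ?_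
    rw [Mdl.mul_val, Mdl.mul_val, Mdl.val_mk' (by norm_num), Mdl.one_val]
    cases ty <;> decide +kernel
  have h321 : (Mdl.mk' 32 : Mdl ty false) ≠ 1 := fun e => by
    have := congrArg Mdl.val e
    rw [Mdl.val_mk' (by norm_num), Mdl.one_val] at this
    omega
  exact (h.2.2 h32 h321 (hne _)).elim hb1 hbz

end Masks

namespace Mdl.Emb

variable {ty us : Bool} {G : Type*} [Group G] {s : G} (E : Mdl.Emb ty us s)

lemma mem_iff {g : G} : g * s = s * g ↔ ∃ m, E.hom m = g := by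
  rw [← MonoidHom.mem_range, E.range_eq, Subgroup.mem_centralizer_singleton_iff]

lemma comm (m : Mdl ty us) : E.hom m * s = s * E.hom m := E.mem_iff.2 ⟨m, rfl⟩

lemma eq_iff {a b : Mdl ty us} : E.hom a = E.hom b ↔ a = b := E.inj.eq_iff

lemma comm_iff {a b : Mdl ty us} : E.hom a * E.hom b = E.hom b * E.hom a ↔ a * b = b * a := by
  rw [← map_mul, ← map_mul, E.eq_iff]

lemma inf_cent (m : Mdl ty us) : centralizer ({s} : Set G) ⊓ centralizer ({E.hom m} : Set G) =
    (centralizer ({m} : Set (Mdl ty us))).map E.hom := by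
  ext g
  rw [mem_inf, mem_centralizer_singleton_iff, mem_centralizer_singleton_iff, mem_map]
  constructor
  · rintro ⟨h1, h2⟩
    obtain ⟨a, rfl⟩ := E.mem_iff.1 h1
    exact ⟨a, mem_centralizer_singleton_iff.2 (E.comm_iff.1 h2), rfl⟩
  · rintro ⟨a, ha, rfl⟩
    exact ⟨E.comm a, E.comm_iff.2 (mem_centralizer_singleton_iff.1 ha)⟩

include E in
lemma card_cent : Nat.card (centralizer ({s} : Set G)) = 192 := by
  rw [← E.range_eq, ← Nat.card_congr (MonoidHom.ofInjective E.inj).toEquiv, Mdl.card]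

include E in
lemma order_two : orderOf s = 2 := by
  refine PGroups.SmallExtraspecial.two_iff.2 ⟨?_, fun h => ?_⟩
  · rw [← E.map_z, ← map_mul, ← map_one E.hom, E.eq_iff]
    refine Mdl.ext' ?_
    rw [Mdl.mul_val, Mdl.z_val, Mdl.one_val]
    cases ty <;> cases us <;> decide +kernel
  · rw [← E.map_z, ← map_one E.hom, E.eq_iff] at h
    have := congrArg Mdl.val h
    rw [Mdl.z_val, Mdl.one_val] at this
    omega

lemma count_le {g : G} (p q : ℕ → Bool)
    (h : ∀ n : Mdl ty us, p n.val = true → ∃ m : Mdl ty us, q m.val = true ∧ E.hom m = g * E.hom n * g⁻¹) :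
    (List.range 192).countP p ≤ (List.range 192).countP q := by
  rw [← Mdl.nat_card_filter (ty := ty) (us := us), ← Mdl.nat_card_filter (ty := ty) (us := us)]
  choose f hf using h
  refine Nat.card_le_card_of_injective (fun n : {n : Mdl ty us // p n.val = true} =>
    (⟨f n.1 n.2, (hf n.1 n.2).1⟩ : {m : Mdl ty us // q m.val = true})) fun a b e => Subtype.ext ?_
  have := congrArg (fun m : {m : Mdl ty us // q m.val = true} => E.hom m.1) e
  simp only [(hf a.1 a.2).2, (hf b.1 b.2).2] at this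
  exact E.inj (mul_left_cancel (mul_right_cancel this))

lemma moved {g : G} {a b : Mdl ty us} (hb : g * E.hom b * g⁻¹ = s) (ha : g * s * g⁻¹ = E.hom a)
    {n : Mdl ty us} (hn : n * b = b * n) : ∃ m : Mdl ty us, m * a = a * m ∧ E.hom m = g * E.hom n * g⁻¹ := by
  have h1 : g * E.hom n * g⁻¹ * s = s * (g * E.hom n * g⁻¹) := by
    have h0 : g * E.hom n * g⁻¹ * (g * E.hom b * g⁻¹) = g * E.hom b * g⁻¹ * (g * E.hom n * g⁻¹) :=
      PGroups.SmallExtraspecial.conj_comm_iff.2 (E.comm_iff.2 hn)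
    rwa [hb] at h0
  obtain ⟨m, hm⟩ := E.mem_iff.1 h1
  refine ⟨m, E.comm_iff.1 ?_, hm⟩
  rw [hm, ← ha]
  exact PGroups.SmallExtraspecial.conj_comm_iff.2 (E.comm n)

lemma profile_le {g : G} {a b : Mdl ty us} (hb : g * E.hom b * g⁻¹ = s) (ha : g * s * g⁻¹ = E.hom a) :
    cc ty us b.val ≤ cc ty us a.val ∧ sqc ty us b.val 16 ≤ sqc ty us a.val a.val ∧
      sqc ty us b.val b.val ≤ sqc ty us a.val 16 := by
  refine ⟨E.count_le (g := g) _ _ fun n hn => ?_, E.count_le (g := g) _ _ fun n hn => ?_,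
    E.count_le (g := g) _ _ fun n hn => ?_⟩
  · obtain ⟨m, hm, he⟩ := E.moved hb ha (Mdl.cm_iff.1 hn)
    exact ⟨m, Mdl.cm_iff.2 hm, he⟩
  · rw [Bool.and_eq_true, beq_iff_eq, ← Mdl.z_val (ty := ty) (us := us), Mdl.sq_val_iff] at hn
    obtain ⟨m, hm, he⟩ := E.moved hb ha (Mdl.cm_iff.1 hn.1)
    refine ⟨m, Bool.and_eq_true_iff.2 ⟨Mdl.cm_iff.2 hm, beq_iff_eq.2 (Mdl.sq_val_iff.2 (E.inj ?_))⟩, he⟩
    rw [map_mul, he, show g * E.hom n * g⁻¹ * (g * E.hom n * g⁻¹) = g * (E.hom n * E.hom n) * g⁻¹ by group,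
      ← map_mul, hn.2, E.map_z, ha]
  · rw [Bool.and_eq_true, beq_iff_eq, Mdl.sq_val_iff] at hn
    obtain ⟨m, hm, he⟩ := E.moved hb ha (Mdl.cm_iff.1 hn.1)
    refine ⟨m, Bool.and_eq_true_iff.2 ⟨Mdl.cm_iff.2 hm, beq_iff_eq.2 ?_⟩, he⟩
    rw [← Mdl.z_val (ty := ty) (us := us), Mdl.sq_val_iff]
    refine E.inj ?_
    rw [map_mul, he, show g * E.hom n * g⁻¹ * (g * E.hom n * g⁻¹) = g * (E.hom n * E.hom n) * g⁻¹ by group,
      ← map_mul, hn.2, hb, E.map_z]

lemma inv_pair {g : G} {a b : Mdl ty us} (hb : g * E.hom b * g⁻¹ = s) (ha : g * s * g⁻¹ = E.hom a) :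
    g⁻¹ * E.hom a * g⁻¹⁻¹ = s ∧ g⁻¹ * s * g⁻¹⁻¹ = E.hom b := by
  constructor
  · rw [← ha]; group
  · calc g⁻¹ * s * g⁻¹⁻¹ = g⁻¹ * (g * E.hom b * g⁻¹) * g⁻¹⁻¹ := by rw [hb]
      _ = E.hom b := by group

lemma profile_eq {g : G} {a b : Mdl ty us} (hb : g * E.hom b * g⁻¹ = s) (ha : g * s * g⁻¹ = E.hom a) :
    cc ty us b.val = cc ty us a.val ∧ sqc ty us b.val 16 = sqc ty us a.val a.val ∧
      sqc ty us b.val b.val = sqc ty us a.val 16 := by
  obtain ⟨ha', hb'⟩ := E.inv_pair hb ha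
  have h1 := E.profile_le hb ha
  have h2 := E.profile_le ha' hb'
  exact ⟨le_antisymm h1.1 h2.1, le_antisymm h1.2.1 h2.2.2, le_antisymm h1.2.2 h2.2.1⟩

/-- A conjugate of `s` other than `s` in `C(s)` comes with a second one. -/
lemma exists_pair {g : G} {a : Mdl ty us} (ha : g * s * g⁻¹ = E.hom a) (haz : a ≠ Mdl.z) :
    ∃ b : Mdl ty us, g * E.hom b * g⁻¹ = s ∧ ivB ty us a.val = true ∧ ivB ty us b.val = true := by
  obtain ⟨hss, hs1⟩ := PGroups.SmallExtraspecial.two_iff.1 E.order_two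
  have h1 : g⁻¹ * s * g * s = s * (g⁻¹ * s * g) := by
    have := E.comm a
    rw [← ha] at this
    calc g⁻¹ * s * g * s = g⁻¹ * (s * (g * s * g⁻¹)) * g := by group
      _ = g⁻¹ * (g * s * g⁻¹ * s) * g := by rw [this]
      _ = s * (g⁻¹ * s * g) := by group
  obtain ⟨b, hb⟩ := E.mem_iff.1 h1
  have hb' : g * E.hom b * g⁻¹ = s := by rw [hb]; group
  refine ⟨b, hb', Mdl.iv_iff.2 ⟨?_, ?_, haz⟩, Mdl.iv_iff.2 ⟨?_, ?_, ?_⟩⟩
  · rw [← E.eq_iff, map_mul, map_one, ← ha,
      show g * s * g⁻¹ * (g * s * g⁻¹) = g * (s * s) * g⁻¹ by group, hss]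
    group
  · rintro rfl; rw [map_one] at ha; exact hs1 (conj_eq_one_iff.1 ha)
  · rw [← E.eq_iff, map_mul, map_one, hb,
      show g⁻¹ * s * g * (g⁻¹ * s * g) = g⁻¹ * (s * s) * g by group, hss]
    group
  · rintro rfl; rw [map_one, mul_one, mul_inv_cancel] at hb'; exact hs1 hb'.symm
  · rintro rfl
    rw [E.map_z] at hb'
    exact haz (E.inj (by rw [E.map_z, ← ha, hb']))

/-- A conjugate of `s` in `Q` lies in a subgroup of order 8, and there is no correction. -/
lemma conj_mask {g : G} {a : Mdl ty us} (ha : g * s * g⁻¹ = E.hom a) (haz : a ≠ Mdl.z) (ha32 : a.val < 32) :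
    us = false ∧ (∃ V ∈ vMasks ty, V.testBit a.val = true) ∧
      ∃ b : Mdl ty us, g * E.hom b * g⁻¹ = s ∧ b ≠ Mdl.z ∧ ∃ W ∈ vMasks ty, W.testBit b.val = true := by
  obtain ⟨b, hb, hia, hib⟩ := E.exists_pair ha haz
  obtain ⟨hc, h16, hbb⟩ := E.profile_eq hb ha
  have hbz := (Mdl.iv_iff.1 hib).2.2
  cases us
  · refine ⟨rfl, ?_⟩
    cases ty
    · have h3 := List.all_eq_true.1 classB₃_all
      have ca := h3 a.val (List.mem_range.2 a.val_lt)
      have cb := h3 b.val (List.mem_range.2 b.val_lt)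
      simp only [classB₃, hia, hib, Bool.not_true, Bool.false_or, (by rwa [Nat.blt_eq] : Nat.blt a.val 32 = true), cond_true, Bool.or_eq_true,
        Bool.and_eq_true, beq_iff_eq, List.any_eq_true] at ca cb
      by_cases hb32 : b.val < 32
      · simp only [(by rwa [Nat.blt_eq] : Nat.blt b.val 32 = true), cond_true, Bool.or_eq_true, Bool.and_eq_true, beq_iff_eq,
          List.any_eq_true] at cb
        rcases ca with ⟨hca, hVa⟩ | ⟨⟨hca, hma⟩, hsa⟩ <;> rcases cb with ⟨hcb, hVb⟩ | ⟨⟨hcb, hmb⟩, hsb⟩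
        · exact ⟨hVa, b, hb, hbz, hVb⟩
        all_goals omega
      · have hf : Nat.blt b.val 32 = false := Bool.eq_false_iff.2 fun h => hb32 (by rwa [Nat.blt_eq] at h)
        simp only [hf, cond_false, beq_iff_eq] at cb
        rcases ca with ⟨hca, -⟩ | ⟨⟨hca, -⟩, -⟩ <;> omega
    · have h3 := List.all_eq_true.1 classB₂_all
      have ca := h3 a.val (List.mem_range.2 a.val_lt)
      have cb := h3 b.val (List.mem_range.2 b.val_lt)
      simp only [classB₂, hia, hib, Bool.not_true, Bool.false_or, (by rwa [Nat.blt_eq] : Nat.blt a.val 32 = true), cond_true,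
        Bool.and_eq_true, beq_iff_eq, List.any_eq_true] at ca cb
      by_cases hb32 : b.val < 32
      · simp only [(by rwa [Nat.blt_eq] : Nat.blt b.val 32 = true), cond_true, Bool.and_eq_true, beq_iff_eq, List.any_eq_true] at cb
        exact ⟨ca.2, b, hb, hbz, cb.2⟩
      · have hf : Nat.blt b.val 32 = false := Bool.eq_false_iff.2 fun h => hb32 (by rwa [Nat.blt_eq] at h)
        simp only [hf, cond_false, beq_iff_eq] at cb
        omega
  · exfalso
    have h3 := List.all_eq_true.1 classB₁_all ty (by cases ty <;> simp)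
    rw [List.all_eq_true] at h3
    have ca := h3 a.val (List.mem_range.2 a.val_lt)
    have cb := h3 b.val (List.mem_range.2 b.val_lt)
    simp only [classB₁, hia, hib, Bool.not_true, Bool.false_or, Bool.or_eq_true, Bool.and_eq_true,
      beq_iff_eq] at ca cb
    omega

end Mdl.Emb

end Cfsg.Agent.H87.S3344
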