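import Cfsg.Agent.H87.S3344.Core

/-!
Existence of generators with the relations of one of the two types.
-/

set_option autoImplicit false

namespace Cfsg.Agent.H87.S3344

/-- The word of five bits. -/
def ev {L : Type*} [Group L] (s x a c : L) (i j k l e : Bool) : L :=
  pw a i * pw (x * a * x⁻¹) j * pw c k * pw (x * c * x⁻¹) l * pw s e

/-- No nontrivial word in two elements is central. -/
def Ind {L : Type*} [Group L] (s a c : L) : Prop :=
  ∀ i k e, pw a i * pw c k = pw s e → i = false ∧ k = false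

/-- A lift behaving exactly. -/
structure Lift {L : Type*} [Group L] (Q : Subgroup L) (x u a : L) : Prop where
  mem : a ∈ Q
  ax : x * (x * a * x⁻¹) * x⁻¹ = a * (x * a * x⁻¹)
  au : u * a * u⁻¹ = a * (a * a)

namespace Setup

variable {L : Type*} [Group L] {Q : Subgroup L} {s x u : L} (h : Setup Q s x u)
include h

lemma mul_pw_assoc (g k : L) (e : Bool) : g * pw s e * k = g * k * pw s e := by
  rw [mul_assoc, ← h.pw_comm, mul_assoc]

lemma pw_merge (g : L) (e f : Bool) : g * pw s e * pw s f = g * pw s (e ^^ f) := by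
  rw [mul_assoc, h.pw_mul]

lemma conj_ux (g : L) : u * (x * g * x⁻¹) * u⁻¹ = x * (x * (u * g * u⁻¹) * x⁻¹) * x⁻¹ := by
  have hux : u * x = x * x * u := by rw [← h.ux]; group
  have hux' : x⁻¹ * u⁻¹ = u⁻¹ * (x * x)⁻¹ := by rw [← mul_inv_rev, hux, mul_inv_rev]
  calc u * (x * g * x⁻¹) * u⁻¹ = u * x * g * (x⁻¹ * u⁻¹) := by group
    _ = _ := by rw [hux, hux']; group

lemma x_cube_conj (g : L) : x * (x * (x * g * x⁻¹) * x⁻¹) * x⁻¹ = g := by
  rw [show x * (x * (x * g * x⁻¹) * x⁻¹) * x⁻¹ = x * x * x * g * (x * x * x)⁻¹ by group, h.x3]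
  group

/-- The relations among two lifts, the square of the second being arbitrary. -/
lemma pair_rels {a c : L} (la : Lift Q x u a) (lc : Lift Q x u c) {D D' : Bool}
    (ha : a * a = pw s D) (hc : c * c = pw s D') :
    c * a = a * c ∧ x * a * x⁻¹ * a = a * (x * a * x⁻¹) * pw s D ∧
      ∃ B, x * c * x⁻¹ * a = a * (x * c * x⁻¹) * pw s B ∧
        c * (x * a * x⁻¹) = x * a * x⁻¹ * c * pw s B := by
  set b := x * a * x⁻¹ with hb
  set d := x * c * x⁻¹ with hd
  have bQ : b ∈ Q := h.mem_conj x la.mem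
  have dQ : d ∈ Q := h.mem_conj x lc.mem
  have hbb : b * b = pw s D := by
    rw [hb, show x * a * x⁻¹ * (x * a * x⁻¹) = x * (a * a) * x⁻¹ by group, ha, h.conj_pw]
  have hxb : x * b * x⁻¹ = a * b := la.ax
  have hxd : x * d * x⁻¹ = c * d := lc.ax
  have habab : a * b * (a * b) = pw s D := by
    rw [← hxb, show x * b * x⁻¹ * (x * b * x⁻¹) = x * (b * b) * x⁻¹ by group, hbb, h.conj_pw]
  have hba : b * a = a * b * pw s D := by
    obtain ⟨e, he⟩ := h.exists_comm la.mem bQ
    have : pw s D = pw s e := by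
      rw [← habab, show a * b * (a * b) = a * (b * a) * b by group, he,
        show a * (a * b * pw s e) * b = a * a * b * (pw s e * b) by group, ← h.pw_comm, ha,
        show pw s D * b * (b * pw s e) = pw s D * (b * b) * pw s e by group, hbb, h.pw_self, one_mul]
    rw [he, this]
  obtain ⟨κ, hκ⟩ := h.exists_comm la.mem lc.mem
  obtain ⟨β, hβ⟩ := h.exists_comm la.mem dQ
  have hκ0 : pw s κ = 1 := by
    have key := congrArg (fun g => u * g * u⁻¹) hβ
    have e2 : ∀ g k : L, u * (g * k) * u⁻¹ = u * g * u⁻¹ * (u * k * u⁻¹) := fun g k => by group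
    have ud : u * d * u⁻¹ = c * d * pw s D' := by
      rw [hd, h.conj_ux, lc.au, hc, h.conj_mul_pw, h.conj_mul_pw, lc.ax]
    simp only [e2, h.conj_pw, ud, la.au, ha] at key
    simp only [← mul_assoc, fun g e => h.mul_pw_assoc g a e, fun g e => h.mul_pw_assoc g c e,
      fun g e => h.mul_pw_assoc g d e, h.pw_merge] at key
    rw [show c * d * a = c * a * d * pw s β by
        rw [mul_assoc c d a, hβ]; group,
      h.pw_merge, hκ] at key
    simp only [fun g e => h.mul_pw_assoc g d e, h.pw_merge] at key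
    have hh := h.pw_inj (mul_left_cancel key)
    have : κ = false := by cases κ <;> cases D <;> cases D' <;> cases β <;> simp at hh ⊢
    rw [this]; rfl
  rw [hκ0, mul_one] at hκ
  refine ⟨hκ, hba, β, hβ, ?_⟩
  obtain ⟨γ, hγ⟩ := h.exists_comm bQ lc.mem
  have key := congrArg (fun g => x * g * x⁻¹) hγ
  have e2 : ∀ g k : L, x * (g * k) * x⁻¹ = x * g * x⁻¹ * (x * k * x⁻¹) := fun g k => by group
  simp only [e2, h.conj_pw, hxb, ← hd] at key
  have hdb : d * b = b * d := by
    rw [hd, hb, show x * c * x⁻¹ * (x * a * x⁻¹) = x * (c * a) * x⁻¹ by group, hκ]; group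
  rw [← mul_assoc, hβ, h.mul_pw_assoc, mul_assoc a d b, hdb, ← mul_assoc] at key
  have hh := h.pw_inj (mul_left_cancel key)
  rw [hγ, hh]

end Setup

namespace Gens

variable {L : Type*} [Group L] {Q : Subgroup L} {s x u : L} {D B : Bool} {a c : L}
  (G : Gens Q s x u D B a c) (h : Setup Q s x u)
include G h

lemma bQ : x * a * x⁻¹ ∈ Q := h.mem_conj x G.aQ

lemma dQ : x * c * x⁻¹ ∈ Q := h.mem_conj x G.cQ

lemma ev_mem (i j k l e : Bool) : ev s x a c i j k l e ∈ Q := by
  have hp : ∀ g ∈ Q, ∀ t, pw g t ∈ Q := fun g hg t => by cases t <;> [exact one_mem Q; exact hg]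
  exact mul_mem (mul_mem (mul_mem (mul_mem (hp _ G.aQ _) (hp _ (G.bQ h) _)) (hp _ G.cQ _))
    (hp _ (G.dQ h) _)) (h.mem_pw e)

lemma b2 : x * a * x⁻¹ * (x * a * x⁻¹) = pw s D := by
  rw [show x * a * x⁻¹ * (x * a * x⁻¹) = x * (a * a) * x⁻¹ by group, G.a2, h.conj_pw]

lemma d2 : x * c * x⁻¹ * (x * c * x⁻¹) = pw s D := by
  rw [show x * c * x⁻¹ * (x * c * x⁻¹) = x * (c * c) * x⁻¹ by group, G.c2, h.conj_pw]

omit G in
lemma pw_swap {g k : L} {κ : Bool} (hk : k * g = g * k * pw s κ) (i : Bool) :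
    pw k i * g = g * pw k i * pw s (i && κ) := by
  cases i
  · simp [pw]
  · simpa [pw] using hk

omit G in
lemma pw_flip {g : L} (hg : g * g = pw s D) (i : Bool) : pw g i * g = pw g (!i) * pw s (i && D) := by
  cases i
  · simp [pw]
  · simpa [pw] using hg

lemma ev_mul_d (i j k l e : Bool) :
    ev s x a c i j k l e * (x * c * x⁻¹) = ev s x a c i j k (!l) (e ^^ (l && D)) := by
  unfold ev
  rw [h.mul_pw_assoc, mul_assoc (pw a i * pw _ j * pw c k) (pw _ l), pw_flip h (G.d2 h), ← mul_assoc,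
    h.pw_merge, Bool.xor_comm]

lemma ev_mul_c (i j k l e : Bool) :
    ev s x a c i j k l e * c = ev s x a c i j (!k) l (e ^^ (l && D) ^^ (k && D)) := by
  unfold ev
  rw [h.mul_pw_assoc]
  rw [mul_assoc _ (pw _ l) c, pw_swap h G.dc]
  simp only [← mul_assoc, fun g e t => h.mul_pw_assoc g (pw a t) e,
    fun g e t => h.mul_pw_assoc g (pw (x * a * x⁻¹) t) e, fun g e t => h.mul_pw_assoc g (pw c t) e,
    fun g e t => h.mul_pw_assoc g (pw (x * c * x⁻¹) t) e, h.pw_merge]
  rw [mul_assoc _ (pw c k) c, pw_flip h G.c2]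
  simp only [← mul_assoc, fun g e t => h.mul_pw_assoc g (pw a t) e,
    fun g e t => h.mul_pw_assoc g (pw (x * a * x⁻¹) t) e, fun g e t => h.mul_pw_assoc g (pw c t) e,
    fun g e t => h.mul_pw_assoc g (pw (x * c * x⁻¹) t) e, h.pw_merge]
  congr 2
  cases e <;> cases l <;> cases k <;> simp

lemma ev_mul_b (i j k l e : Bool) :
    ev s x a c i j k l e * (x * a * x⁻¹) = ev s x a c i (!j) k l (e ^^ (k && B) ^^ (j && D)) := by
  have hdb := G.db
  have hcb := G.cb
  have hb2 := G.b2 h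
  unfold ev
  generalize x * a * x⁻¹ = b at hdb hcb hb2 ⊢
  generalize x * c * x⁻¹ = d at hdb ⊢
  rw [h.mul_pw_assoc]
  rw [mul_assoc _ (pw _ l) b, pw_swap h (κ := false) (g := b) (k := d) (by rw [hdb]; simp [pw])]
  simp only [← mul_assoc, fun g e t => h.mul_pw_assoc g (pw a t) e,
    fun g e t => h.mul_pw_assoc g (pw b t) e, fun g e t => h.mul_pw_assoc g (pw c t) e,
    fun g e t => h.mul_pw_assoc g (pw d t) e, h.pw_merge]
  rw [mul_assoc _ (pw c k) b, pw_swap h hcb]
  simp only [← mul_assoc, fun g e t => h.mul_pw_assoc g (pw a t) e,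
    fun g e t => h.mul_pw_assoc g (pw b t) e, fun g e t => h.mul_pw_assoc g (pw c t) e,
    fun g e t => h.mul_pw_assoc g (pw d t) e, h.pw_merge]
  rw [mul_assoc _ (pw _ j) b, pw_flip h hb2]
  simp only [← mul_assoc, fun g e t => h.mul_pw_assoc g (pw a t) e,
    fun g e t => h.mul_pw_assoc g (pw b t) e, fun g e t => h.mul_pw_assoc g (pw c t) e,
    fun g e t => h.mul_pw_assoc g (pw d t) e, h.pw_merge]
  congr 2
  cases e <;> cases l <;> cases k <;> cases j <;> simp [Bool.xor_comm]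

lemma ev_mul_a (i j k l e : Bool) :
    ev s x a c i j k l e * a = ev s x a c (!i) j k l (e ^^ (l && B) ^^ (j && D) ^^ (i && D)) := by
  unfold ev
  rw [h.mul_pw_assoc]
  rw [mul_assoc _ (pw _ l) a, pw_swap h G.da]
  simp only [← mul_assoc, fun g e t => h.mul_pw_assoc g (pw a t) e,
    fun g e t => h.mul_pw_assoc g (pw (x * a * x⁻¹) t) e, fun g e t => h.mul_pw_assoc g (pw c t) e,
    fun g e t => h.mul_pw_assoc g (pw (x * c * x⁻¹) t) e, h.pw_merge]
  rw [mul_assoc _ (pw c k) a, pw_swap h (κ := false) (g := a) (k := c) (by rw [G.ca]; simp [pw])]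
  simp only [← mul_assoc, fun g e t => h.mul_pw_assoc g (pw a t) e,
    fun g e t => h.mul_pw_assoc g (pw (x * a * x⁻¹) t) e, fun g e t => h.mul_pw_assoc g (pw c t) e,
    fun g e t => h.mul_pw_assoc g (pw (x * c * x⁻¹) t) e, h.pw_merge]
  rw [mul_assoc _ (pw _ j) a, pw_swap h G.ba]
  simp only [← mul_assoc, fun g e t => h.mul_pw_assoc g (pw a t) e,
    fun g e t => h.mul_pw_assoc g (pw (x * a * x⁻¹) t) e, fun g e t => h.mul_pw_assoc g (pw c t) e,
    fun g e t => h.mul_pw_assoc g (pw (x * c * x⁻¹) t) e, h.pw_merge]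
  rw [pw_flip h G.a2]
  simp only [← mul_assoc, fun g e t => h.mul_pw_assoc g (pw a t) e,
    fun g e t => h.mul_pw_assoc g (pw (x * a * x⁻¹) t) e, fun g e t => h.mul_pw_assoc g (pw c t) e,
    fun g e t => h.mul_pw_assoc g (pw (x * c * x⁻¹) t) e, h.pw_merge]
  congr 2
  cases e <;> cases l <;> cases k <;> cases j <;> cases i <;> simp [Bool.xor_comm]

lemma ev_mul_ev (i j k l e i' j' k' l' e' : Bool) :
    ∃ f, ev s x a c i j k l e * ev s x a c i' j' k' l' e' =
      ev s x a c (i ^^ i') (j ^^ j') (k ^^ k') (l ^^ l') f := by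
  have ha : ∀ i j k l e t, ∃ f, ev s x a c i j k l e * pw a t = ev s x a c (i ^^ t) j k l f := by
    intro i j k l e t
    cases t
    · exact ⟨e, by simp [pw]⟩
    · exact ⟨_, by rw [Bool.xor_true]; exact G.ev_mul_a h i j k l e⟩
  have hb : ∀ i j k l e t, ∃ f, ev s x a c i j k l e * pw (x * a * x⁻¹) t =
      ev s x a c i (j ^^ t) k l f := by
    intro i j k l e t
    cases t
    · exact ⟨e, by simp [pw]⟩
    · exact ⟨_, by rw [Bool.xor_true]; exact G.ev_mul_b h i j k l e⟩
  have hc : ∀ i j k l e t, ∃ f, ev s x a c i j k l e * pw c t = ev s x a c i j (k ^^ t) l f := by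
    intro i j k l e t
    cases t
    · exact ⟨e, by simp [pw]⟩
    · exact ⟨_, by rw [Bool.xor_true]; exact G.ev_mul_c h i j k l e⟩
  have hd : ∀ i j k l e t, ∃ f, ev s x a c i j k l e * pw (x * c * x⁻¹) t =
      ev s x a c i j k (l ^^ t) f := by
    intro i j k l e t
    cases t
    · exact ⟨e, by simp [pw]⟩
    · exact ⟨_, by rw [Bool.xor_true]; exact G.ev_mul_d h i j k l e⟩
  obtain ⟨f1, h1⟩ := ha i j k l e i'
  obtain ⟨f2, h2⟩ := hb (i ^^ i') j k l f1 j'
  obtain ⟨f3, h3⟩ := hc (i ^^ i') (j ^^ j') k l f2 k'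
  obtain ⟨f4, h4⟩ := hd (i ^^ i') (j ^^ j') (k ^^ k') l f3 l'
  refine ⟨f4 ^^ e', ?_⟩
  rw [show ev s x a c i' j' k' l' e' =
    pw a i' * pw (x * a * x⁻¹) j' * pw c k' * pw (x * c * x⁻¹) l' * pw s e' from rfl]
  simp only [← mul_assoc]
  rw [h1, h2, h3, h4]
  exact h.pw_merge _ _ _

variable (hI : Ind s a c)
include hI

lemma ev_central {i j k l e f : Bool} (he : ev s x a c i j k l e = pw s f) :
    i = false ∧ j = false ∧ k = false ∧ l = false := by
  set g := pw a j * pw c l with hg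
  set h0 := pw a i * pw c k with h0def
  have hev : ∃ t, ev s x a c i j k l e = h0 * (x * g * x⁻¹) * pw s t := by
    have hb : pw (x * a * x⁻¹) j = x * pw a j * x⁻¹ := by cases j <;> simp [pw]
    have hd : pw (x * c * x⁻¹) l = x * pw c l * x⁻¹ := by cases l <;> simp [pw]
    refine ⟨(k && j && B) ^^ e, ?_⟩
    have sw : pw (x * a * x⁻¹) j * pw c k = pw c k * pw (x * a * x⁻¹) j * pw s (k && j && B) := by
      cases j
      · simp [pw]
      · have := pw_swap h G.cb k
        rw [show pw (x * a * x⁻¹) true = x * a * x⁻¹ from rfl, this, h.pw_merge]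
        simp [pw]
    rw [ev, mul_assoc (pw a i), sw, hg, h0def,
      show x * (pw a j * pw c l) * x⁻¹ = x * pw a j * x⁻¹ * (x * pw c l * x⁻¹) by group, ← hb, ← hd]
    simp only [← mul_assoc, fun g e t => h.mul_pw_assoc g (pw a t) e,
      fun g e t => h.mul_pw_assoc g (pw (x * a * x⁻¹) t) e, fun g e t => h.mul_pw_assoc g (pw c t) e,
      fun g e t => h.mul_pw_assoc g (pw (x * c * x⁻¹) t) e, h.pw_merge]
  obtain ⟨t, ht⟩ := hev
  have hτ : ∀ p q, ∃ m, u * (pw a p * pw c q) * u⁻¹ = pw a p * pw c q * pw s m := by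
    intro p q
    refine ⟨(p && D) ^^ (q && D), ?_⟩
    rw [show u * (pw a p * pw c q) * u⁻¹ = u * pw a p * u⁻¹ * (u * pw c q * u⁻¹) by group,
      show u * pw a p * u⁻¹ = pw a p * pw s (p && D) by cases p <;> simp [pw]; exact G.a_u,
      show u * pw c q * u⁻¹ = pw c q * pw s (q && D) by cases q <;> simp [pw]; exact G.c_u]
    simp only [← mul_assoc, fun g e t => h.mul_pw_assoc g (pw a t) e,
      fun g e t => h.mul_pw_assoc g (pw (x * a * x⁻¹) t) e, fun g e t => h.mul_pw_assoc g (pw c t) e,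
      fun g e t => h.mul_pw_assoc g (pw (x * c * x⁻¹) t) e, h.pw_merge]
  have e1 : x * g * x⁻¹ = h0⁻¹ * pw s (f ^^ t) := by
    rw [← h.pw_mul, ← he, ht, h.pw_merge, Bool.xor_self]
    simp [pw]
  obtain ⟨m0, hm0⟩ := hτ i k
  obtain ⟨m, hm⟩ := hτ j l
  rw [← h0def] at hm0
  rw [← hg] at hm
  have e2 : x * (x * g * x⁻¹) * x⁻¹ = x * g * x⁻¹ * pw s (m0 ^^ m) := by
    have h1 : u * (x * g * x⁻¹) * u⁻¹ = x * g * x⁻¹ * pw s m0 := by
      rw [e1, h.conj_mul_pw, show u * h0⁻¹ * u⁻¹ = (u * h0 * u⁻¹)⁻¹ by group, hm0, mul_inv_rev,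
        h.inv_eq (q := pw s m0) (e := false) (h.pw_self m0)]
      simp only [show pw s false = (1 : L) from rfl, mul_one]
      rw [← h.pw_comm, h.mul_pw_assoc]
    rw [h.conj_ux, hm, h.conj_mul_pw, h.conj_mul_pw] at h1
    have h2 := congrArg (fun z => z * pw s m) h1
    simpa only [h.pw_merge, Bool.xor_self, show pw s false = (1 : L) from rfl, mul_one] using h2
  have e3 : x * g * x⁻¹ = g * pw s (m0 ^^ m) := by
    have h2 : x * (x * g * x⁻¹) * x⁻¹ = x * (g * pw s (m0 ^^ m)) * x⁻¹ := by rw [h.conj_mul_pw]; exact e2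
    exact mul_left_cancel (mul_right_cancel h2)
  have e4 : x * g * x⁻¹ = g := by
    have h1 := h.x_cube_conj g
    simp only [e3, h.conj_mul_pw, h.pw_merge, Bool.xor_self, Bool.false_xor, Bool.xor_false] at h1
    rw [e3, h1]
  have gQ : g ∈ Q := by
    have hp : ∀ y ∈ Q, ∀ t, pw y t ∈ Q := fun y hy t => by cases t <;> [exact one_mem Q; exact hy]
    exact mul_mem (hp _ G.aQ _) (hp _ G.cQ _)
  have hgs : ∃ r, g = pw s r := by
    rcases h.fix g gQ (mul_inv_eq_iff_eq_mul.1 e4) with hh | hh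
    · exact ⟨false, hh⟩
    · exact ⟨true, hh⟩
  obtain ⟨r, hr⟩ := hgs
  obtain ⟨rfl, rfl⟩ := hI j l r hr
  have h0s : h0 = pw s (f ^^ t) := by
    rw [← h.pw_mul, ← he, ht, h.pw_merge, Bool.xor_self, hg]
    simp [pw]
  obtain ⟨rfl, rfl⟩ := hI i k _ h0s
  simp

lemma ev_injective {i j k l e i' j' k' l' e' : Bool}
    (he : ev s x a c i j k l e = ev s x a c i' j' k' l' e') :
    i = i' ∧ j = j' ∧ k = k' ∧ l = l' ∧ e = e' := by
  obtain ⟨f, hf⟩ := G.ev_mul_ev h i' j' k' l' e' i j k l e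
  obtain ⟨f', hf'⟩ := G.ev_mul_ev h i' j' k' l' e' i' j' k' l' e'
  rw [he, hf'] at hf
  simp only [Bool.xor_self] at hf
  have hcen : ev s x a c (i' ^^ i) (j' ^^ j) (k' ^^ k) (l' ^^ l) f = pw s f' := by
    rw [← hf]; simp [ev, pw]
  obtain ⟨h1, h2, h3, h4⟩ := G.ev_central h hI hcen
  obtain rfl : i = i' := by cases i <;> cases i' <;> simp_all
  obtain rfl : j = j' := by cases j <;> cases j' <;> simp_all
  obtain rfl : k = k' := by cases k <;> cases k' <;> simp_all
  obtain rfl : l = l' := by cases l <;> cases l' <;> simp_all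
  refine ⟨rfl, rfl, rfl, rfl, h.pw_inj (mul_left_cancel (a := pw a i * pw (x * a * x⁻¹) j * pw c k * pw (x * c * x⁻¹) l) ?_)⟩
  exact he

lemma ev_surjective [Finite L] {q : L} (hq : q ∈ Q) : ∃ i j k l e, ev s x a c i j k l e = q := by
  let f : Bool × Bool × Bool × Bool × Bool → Q := fun v =>
    ⟨ev s x a c v.1 v.2.1 v.2.2.1 v.2.2.2.1 v.2.2.2.2, G.ev_mem h _ _ _ _ _⟩
  have hinj : Function.Injective f := fun v w hvw => by
    obtain ⟨h1, h2, h3, h4, h5⟩ := G.ev_injective h hI (congrArg Subtype.val hvw)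
    obtain ⟨_, _, _, _, _⟩ := v
    obtain ⟨_, _, _, _, _⟩ := w
    simp_all
  have hb := (Nat.bijective_iff_injective_and_card f).2 ⟨hinj, by rw [h.card]; simp⟩
  obtain ⟨v, hv⟩ := hb.2 ⟨q, hq⟩
  exact ⟨_, _, _, _, _, congrArg Subtype.val hv⟩

/-- The two parameters are complementary. -/
lemma type_eq [Finite L] : D = !B := by
  by_contra hne
  have hDB : D = B := by cases D <;> cases B <;> simp_all
  subst hDB
  -- a central element outside the centre
  obtain ⟨z, hzQ, hz, hza, hzb, hzc, hzd⟩ : ∃ z ∈ Q, (∀ f, z ≠ pw s f) ∧ z * a = a * z ∧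
      z * (x * a * x⁻¹) = x * a * x⁻¹ * z ∧ z * c = c * z ∧ z * (x * c * x⁻¹) = x * c * x⁻¹ * z := by
    cases D
    · refine ⟨a, G.aQ, fun f hf => ?_, rfl, ?_, G.ca.symm, ?_⟩
      · exact absurd (hI true false f (by simpa [pw] using hf)).1 (by simp)
      · simpa [pw] using G.ba.symm
      · simpa [pw] using G.da.symm
    · refine ⟨a * c, mul_mem G.aQ G.cQ, fun f hf => ?_, ?_, ?_, ?_, ?_⟩
      · exact absurd (hI true true f (by simpa [pw] using hf)).1 (by simp)
      · rw [mul_assoc, G.ca]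
      · rw [mul_assoc, G.cb, ← mul_assoc, ← mul_assoc, show x * a * x⁻¹ * (a * c) =
          x * a * x⁻¹ * a * c by group, G.ba, h.mul_pw_assoc]
      · rw [← mul_assoc c a c, G.ca]
      · rw [mul_assoc, show c * (x * c * x⁻¹) =
          x * c * x⁻¹ * c * pw s true by rw [G.dc, h.pw_merge]; simp [pw], ← mul_assoc, ← mul_assoc,
          show x * c * x⁻¹ * (a * c) = x * c * x⁻¹ * a * c by group, G.da, h.mul_pw_assoc]
  have hp : ∀ g, z * g = g * z → ∀ t, z * pw g t = pw g t * z := fun g hg t => by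
    cases t <;> [simp [pw]; exact hg]
  refine absurd (h.centre z hzQ fun r hr => ?_) fun hh => hh.elim (hz false) (hz true)
  obtain ⟨i, j, k, l, e, rfl⟩ := G.ev_surjective h hI hr
  exact ((((Commute.mul_right (hp _ hza i) (hp _ hzb j)).mul_right (hp _ hzc k)).mul_right
    (hp _ hzd l)).mul_right (h.pw_comm e z))

end Gens

namespace Setup

variable {L : Type*} [Group L] [Finite L] {Q : Subgroup L} {s x u : L} (h : Setup Q s x u)
include h

lemma gens_of_pair {a c : L} (la : Lift Q x u a) (lc : Lift Q x u c) {D : Bool}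
    (ha : a * a = pw s D) (hc : c * c = pw s D) : ∃ B, Gens Q s x u D B a c := by
  obtain ⟨hca, hba, B, hda, hcb⟩ := h.pair_rels la lc ha hc
  obtain ⟨-, hdc, -⟩ := h.pair_rels lc la hc ha
  refine ⟨B, la.mem, lc.mem, la.ax, lc.ax, by rw [la.au, ha], by rw [lc.au, hc], ha, hc, hba, hdc, hca,
    ?_, hda, hcb⟩
  rw [show x * c * x⁻¹ * (x * a * x⁻¹) = x * (c * a) * x⁻¹ by group, hca]
  group

/-- The generators exist, with complementary parameters. -/
theorem exists_gens : ∃ ty a c, Gens Q s x u (!ty) ty a c ∧ Ind s a c := by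
  classical
  obtain ⟨f1, hf1, hn1, hu1⟩ := h.exists_fixed {1, s} (by
    exact le_trans Finset.card_le_two (by norm_num))
  obtain ⟨a, ea, hae, haQ, hax, hau⟩ := h.exists_lift hf1 hu1
  obtain ⟨f2, hf2, hn2, hu2⟩ := h.exists_fixed {1, s, a, a * s} Finset.card_le_four
  obtain ⟨c, ec, hce, hcQ, hcx, hcu⟩ := h.exists_lift hf2 hu2
  have la : Lift Q x u a := ⟨haQ, hax, hau⟩
  have lc : Lift Q x u c := ⟨hcQ, hcx, hcu⟩
  have ha1 : ∀ e, a ≠ pw s e := fun e he => hn1 <| by
    rw [h.mul_pw_cancel hae, he, h.pw_mul]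
    rcases (e ^^ ea) <;> simp [pw]
  have hc1 : ∀ i e, c ≠ pw a i * pw s e := fun i e he => hn2 <| by
    rw [h.mul_pw_cancel hce, he, h.pw_merge]
    rcases (e ^^ ec) <;> cases i <;> simp [pw]
  have hI : Ind s a c := by
    intro i k e he
    cases k
    · refine ⟨?_, rfl⟩
      cases i
      · rfl
      · exact absurd (by simpa [pw] using he) (ha1 e)
    · exfalso
      obtain ⟨Da, hDa⟩ := h.exists_sq haQ
      cases i
      · exact hc1 false e (by simpa [pw] using he)
      · refine hc1 true (Da ^^ e) ?_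
        have he' : a * c = pw s e := by simpa [pw] using he
        calc c = a⁻¹ * (a * c) := by group
          _ = a * pw s Da * pw s e := by rw [he', h.inv_eq hDa]
          _ = _ := by rw [h.pw_merge]; rfl
  obtain ⟨Da, hDa⟩ := h.exists_sq haQ
  obtain ⟨Dc, hDc⟩ := h.exists_sq hcQ
  by_cases hD : Da = Dc
  · subst hD
    obtain ⟨B, G⟩ := h.gens_of_pair la lc hDa hDc
    have := G.type_eq h hI
    subst this
    exact ⟨B, a, c, G, hI⟩
  -- otherwise replace the one of square one by the product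
  obtain ⟨hca, -, -⟩ := h.pair_rels la lc hDa hDc
  obtain ⟨g, eg, hge, hgQ, hgx, hgu⟩ := h.exists_lift (mul_mem haQ hcQ) ⟨Da ^^ Dc, by
    rw [show u * (a * c) * u⁻¹ = u * a * u⁻¹ * (u * c * u⁻¹) by group, hau, hDa, hcu, hDc]
    simp only [← mul_assoc, fun g e => h.mul_pw_assoc g c e, h.pw_merge]⟩
  have lg : Lift Q x u g := ⟨hgQ, hgx, hgu⟩
  have hg2 : g * g = pw s (Da ^^ Dc) := by
    rw [hge, show a * c * pw s eg * (a * c * pw s eg) = a * c * (pw s eg * (a * c)) * pw s eg by group,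
      ← h.pw_comm, ← mul_assoc, mul_assoc _ (pw s eg), h.pw_self, mul_one,
      show a * c * (a * c) = a * (c * a) * c by group, hca,
      show a * (a * c) * c = a * a * (c * c) by group, hDa, hDc, h.pw_mul]
  have hgI : ∀ (y : L), (y = a ∨ y = c) → Ind s y g := by
    intro y hy i k e he
    cases k
    · refine ⟨?_, rfl⟩
      cases i
      · rfl
      · have hy' : y = pw s e := by simpa [pw] using he
        rcases hy with rfl | rfl
        · exact absurd hy' (ha1 e)
        · exact absurd hy' (by simpa [pw] using hc1 false e)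
    · exfalso
      have he' : pw y i * (a * c) = pw s (e ^^ eg) := by
        rw [← h.pw_mul, ← he, hge, show pw (a * c * pw s eg) true = a * c * pw s eg from rfl, mul_assoc,
          mul_assoc (a * c), h.pw_self, mul_one]
      cases i
      · exact absurd (hI true true _ (by simpa [pw] using he')).1 (by simp)
      · have he'' : y * (a * c) = pw s (e ^^ eg) := by simpa [pw] using he'
        rcases hy with rfl | rfl
        · rw [← mul_assoc, hDa, ← h.pw_comm] at he''
          refine absurd (hI false true ((e ^^ eg) ^^ Da) ?_).2 (by simp)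
          rw [← h.pw_mul, ← he'', mul_assoc, h.pw_self]
          simp [pw]
        · rw [← hca, ← mul_assoc, hDc, ← h.pw_comm] at he''
          refine absurd (hI true false ((e ^^ eg) ^^ Dc) ?_).1 (by simp)
          rw [← h.pw_mul, ← he'', mul_assoc, h.pw_self]
          simp [pw]
  cases Da
  · have hDc' : Dc = true := by cases Dc <;> simp_all
    subst hDc'
    obtain ⟨B, G⟩ := h.gens_of_pair lc lg hDc (by simpa using hg2)
    have hI' := hgI c (Or.inr rfl)
    have hB : B = false := by simpa using G.type_eq h hI'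
    exact ⟨false, c, g, by rw [hB] at G; exact G, hI'⟩
  · have hDc' : Dc = false := by cases Dc <;> simp_all
    subst hDc'
    obtain ⟨B, G⟩ := h.gens_of_pair la lg hDa (by simpa using hg2)
    have hI' := hgI a (Or.inl rfl)
    have hB : B = false := by simpa using G.type_eq h hI'
    exact ⟨false, a, g, by rw [hB] at G; exact G, hI'⟩

end Setup

end Cfsg.Agent.H87.S3344
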