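import Mathlib

/-!
The four groups `Q.S₃` of order 192 with `Q` extraspecial of order 32 and a fixed-point-free element of
order three on the central quotient, on labels `q + 32 p` for `q` in `Q` (five bits: the generators
a, b, c, d, s) and `p = i + 3 j` standing for `x^i u^j`.
`ty = false`: `u` fixes both quaternion factors (type of `M₁₂`); `ty = true`: it interchanges them (type
of `A₈`). `us`: whether `u² = s`.
-/

set_option autoImplicit false

namespace Cfsg.Agent.H87.S3344

/-- The cocycle of the extraspecial group, packed. -/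
def eTab (ty : Bool) : ℕ :=
  bif ty then 46316835694926478171102287799578278011709575361367728455190687607420929179648
  else 23429450805088883725401232053281517832761903501767853175521781084238572552192

/-- Product in the extraspecial group. -/
def qmul (ty : Bool) (x y : ℕ) : ℕ :=
  (x ^^^ y) ^^^ (16 * ((eTab ty >>> (16 * (x % 16) + y % 16)) &&& 1))

/-- The action of the complement on the extraspecial group, packed. -/
def aTab (ty : Bool) : ℕ :=
  bif ty then 198533382739290067999496884991923171109283668950693121738953476329782409437498933274005846119882586903198024576620728301786025798492176037698527371501508492472829237348750385931665382298198400930992970971457067391464372545237346435955472458062515170515779258846420458798946024743593408584606251754787108789347130724885544850977349981424154882538052629666920900233336023586930810026255176019817973782604918852192564608327543006097434603112668870686430541610352896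
  else 198533373760176565637770189401319336965522079329215000992909945846972265697160639909649474146556864974334386778908352782748655502696479705485037660669644530492177253185044696932384582194675866811118998277905005043848451970517616875800328244952502031832158700570306993198710545969666263083623578548276091143770623509286479957860609110628446803819656014247998497831277916699382578850636287320622002171000553247335604423976509522746656506901673336111398978404352256

/-- The action of the complement on the extraspecial group. -/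
def act (ty : Bool) (p q : ℕ) : ℕ := (aTab ty >>> (8 * (32 * p + q))) &&& 255

/-- The multiplication table of the complement, packed. -/
def pTab : ℕ := 7648185104313405280947361712056752017046675716834862124027535461906598822896861440

/-- Product in the complement. -/
def pmul (p p' : ℕ) : ℕ := (pTab >>> (8 * (6 * p + p'))) &&& 255

/-- The correction of the square of `u`, packed. -/
def wTab : ℕ := 31204593365773400109766003815628976021860193057768686585168433729023339036502868885504

/-- The correction of the square of `u`. -/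
def wq (us : Bool) (p p' : ℕ) : ℕ := bif us then (wTab >>> (8 * (6 * p + p'))) &&& 255 else 0

/-- Product of labels. -/
def nmul (ty us : Bool) (a b : ℕ) : ℕ :=
  qmul ty (qmul ty (a % 32) (act ty (a / 32) (b % 32))) (wq us (a / 32) (b / 32)) +
    32 * pmul (a / 32) (b / 32)

/-- Inverse of a label (the twenty-third power). -/
def ninv (ty us : Bool) (a : ℕ) : ℕ :=
  let a2 := nmul ty us a a
  let a4 := nmul ty us a2 a2
  let a8 := nmul ty us a4 a4
  let a16 := nmul ty us a8 a8
  nmul ty us (nmul ty us (nmul ty us a16 a4) a2) a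

/-- The five bits of a number below 32 multiplied out. -/
def qform (ty : Bool) (z : ℕ) : ℕ :=
  qmul ty (qmul ty (qmul ty (qmul ty (z &&& 1) (z &&& 2)) (z &&& 4)) (z &&& 8))
    (z &&& 16 ^^^ (qmul ty (qmul ty (qmul ty (z &&& 1) (z &&& 2)) (z &&& 4)) (z &&& 8) &&& 16))

/-- The checks on the extraspecial group. -/
def qB (ty : Bool) : Bool :=
  (List.range 32).all fun x => qmul ty x 0 == x && qmul ty 0 x == x && qform ty x == x &&
    qmul ty x 16 == qmul ty 16 x &&
    (List.range 32).all fun y => Nat.blt (qmul ty x y) 32 && [1, 2, 4, 8, 16].all fun g =>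
      qmul ty x (qmul ty y g) == qmul ty (qmul ty x y) g

/-- The checks on the action. -/
def aB (ty : Bool) : Bool :=
  (List.range 6).all fun p => act ty p 0 == 0 && act ty p 16 == 16 && (List.range 32).all fun x =>
    Nat.blt (act ty p x) 32 && act ty 0 x == x && ((List.range 32).all fun y =>
      act ty p (qmul ty x y) == qmul ty (act ty p x) (act ty p y)) &&
    (List.range 6).all fun p' => act ty p (act ty p' x) == act ty (pmul p p') x

/-- The checks on the complement and the correction. -/
def pB (us : Bool) : Bool :=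
  (List.range 6).all fun p => pmul p 0 == p && pmul 0 p == p && wq us p 0 == 0 && wq us 0 p == 0 &&
    (List.range 6).all fun p' => Nat.blt (pmul p p') 6 && (wq us p p' == 0 || wq us p p' == 16) &&
      (List.range 6).all fun p'' => pmul p (pmul p' p'') == pmul (pmul p p') p'' &&
        ((wq us p p' ^^^ wq us (pmul p p') p'') == (wq us p' p'' ^^^ wq us p (pmul p' p'')))

lemma qB_all : ([false, true].all qB) = true := by decide +kernel

lemma aB_all : ([false, true].all aB) = true := by decide +kernel

lemma pB_all : ([false, true].all pB) = true := by decide +kernel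

lemma inv_check : ([false, true].all fun ty => [false, true].all fun us => (List.range 192).all fun a =>
    Nat.blt (ninv ty us a) 192 && nmul ty us (ninv ty us a) a == 0) = true := by
  decide +kernel

variable (ty us : Bool)

lemma q_facts {x : ℕ} (hx : x < 32) : qmul ty x 0 = x ∧ qmul ty 0 x = x ∧ qform ty x = x ∧
    qmul ty x 16 = qmul ty 16 x ∧ ∀ y < 32, qmul ty x y < 32 ∧
      ∀ g ∈ [1, 2, 4, 8, 16], qmul ty x (qmul ty y g) = qmul ty (qmul ty x y) g := by
  have h := List.all_eq_true.1 qB_all ty (by cases ty <;> simp)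
  simp only [qB, List.all_eq_true, List.mem_range, Bool.and_eq_true, beq_iff_eq, Nat.blt_eq] at h
  obtain ⟨⟨⟨⟨h1, h2⟩, h3⟩, h4⟩, h5⟩ := h x hx
  exact ⟨h1, h2, h3, h4, h5⟩

lemma qlt {x y : ℕ} (hx : x < 32) (hy : y < 32) : qmul ty x y < 32 := ((q_facts ty hx).2.2.2.2 y hy).1

lemma qassoc {x y z : ℕ} (hx : x < 32) (hy : y < 32) (hz : z < 32) :
    qmul ty x (qmul ty y z) = qmul ty (qmul ty x y) z := by
  let A : ℕ → Prop := fun g => g < 32 ∧ ∀ a < 32, ∀ b < 32, qmul ty a (qmul ty b g) = qmul ty (qmul ty a b) g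
  have hmul : ∀ g h, A g → A h → A (qmul ty g h) := fun g h hg hh => ⟨qlt ty hg.1 hh.1, fun a ha b hb => by
    rw [hh.2 b hb g hg.1, hh.2 a ha _ (qlt ty hb hg.1), hg.2 a ha b hb,
      hh.2 _ (qlt ty ha hb) g hg.1]⟩
  have hgen : ∀ g ∈ [0, 1, 2, 4, 8, 16], A g := by
    intro g hg
    refine ⟨by simp at hg; omega, fun a ha b hb => ?_⟩
    rcases List.mem_cons.1 hg with rfl | hg
    · rw [(q_facts ty hb).1, (q_facts ty (qlt ty ha hb)).1]
    · exact ((q_facts ty ha).2.2.2.2 b hb).2 g hg
  have hbit : ∀ (k : ℕ) (n : ℕ), k ≤ 4 → A (n &&& 2 ^ k) := by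
    intro k n hk
    rw [Nat.and_two_pow]
    rcases Bool.eq_false_or_eq_true (n.testBit k) with h | h <;> rw [h]
    · exact hgen _ (by interval_cases k <;> simp)
    · exact hgen _ (by simp)
  have hA := hmul _ _ (hmul _ _ (hmul _ _ (hbit 0 z (by omega)) (hbit 1 z (by omega))) (hbit 2 z (by omega)))
    (hbit 3 z (by omega))
  have hlast : A (z &&& 16 ^^^ (qmul ty (qmul ty (qmul ty (z &&& 1) (z &&& 2)) (z &&& 4)) (z &&& 8) &&& 16)) := by
    rw [show (16 : ℕ) = 2 ^ 4 from rfl, ← Nat.and_xor_distrib_right]
    exact hbit 4 _ le_rfl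
  have h : A (qform ty z) := hmul _ _ hA hlast
  rw [(q_facts ty hz).2.2.1] at h
  exact h.2 x hx y hy

lemma a_facts {p x : ℕ} (hp : p < 6) (hx : x < 32) : act ty p 0 = 0 ∧ act ty p 16 = 16 ∧ act ty p x < 32 ∧
    act ty 0 x = x ∧ (∀ y < 32, act ty p (qmul ty x y) = qmul ty (act ty p x) (act ty p y)) ∧
      ∀ p' < 6, act ty p (act ty p' x) = act ty (pmul p p') x := by
  have h := List.all_eq_true.1 aB_all ty (by cases ty <;> simp)
  simp only [aB, List.all_eq_true, List.mem_range, Bool.and_eq_true, beq_iff_eq, Nat.blt_eq] at h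
  obtain ⟨⟨h1, h2⟩, h3⟩ := h p hp
  obtain ⟨⟨⟨h4, h5⟩, h6⟩, h7⟩ := h3 x hx
  exact ⟨h1, h2, h4, h5, h6, h7⟩

lemma p_facts {p : ℕ} (hp : p < 6) : pmul p 0 = p ∧ pmul 0 p = p ∧ wq us p 0 = 0 ∧ wq us 0 p = 0 ∧
    ∀ p' < 6, pmul p p' < 6 ∧ (wq us p p' = 0 ∨ wq us p p' = 16) ∧ ∀ p'' < 6,
      pmul p (pmul p' p'') = pmul (pmul p p') p'' ∧
        wq us p p' ^^^ wq us (pmul p p') p'' = wq us p' p'' ^^^ wq us p (pmul p' p'') := by
  have h := List.all_eq_true.1 pB_all us (by cases us <;> simp)
  simp only [pB, List.all_eq_true, List.mem_range, Bool.and_eq_true, Bool.or_eq_true, beq_iff_eq,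
    Nat.blt_eq] at h
  obtain ⟨⟨⟨⟨h1, h2⟩, h3⟩, h4⟩, h5⟩ := h p hp
  exact ⟨h1, h2, h3, h4, fun p' hp' => ⟨(h5 p' hp').1.1, (h5 p' hp').1.2, (h5 p' hp').2⟩⟩

lemma wlt {p p' : ℕ} (hp : p < 6) (hp' : p' < 6) : wq us p p' < 32 := by
  rcases ((p_facts us hp).2.2.2.2 p' hp').2.1 with h | h <;> omega

lemma wcomm {p p' x : ℕ} (hp : p < 6) (hp' : p' < 6) (hx : x < 32) :
    qmul ty (wq us p p') x = qmul ty x (wq us p p') := by
  rcases ((p_facts us hp).2.2.2.2 p' hp').2.1 with h | h <;> rw [h]
  · rw [(q_facts ty hx).1, (q_facts ty hx).2.1]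
  · exact (q_facts ty hx).2.2.2.1.symm

lemma wact {r p p' : ℕ} (hr : r < 6) (hp : p < 6) (hp' : p' < 6) :
    act ty r (wq us p p') = wq us p p' := by
  rcases ((p_facts us hp).2.2.2.2 p' hp').2.1 with h | h <;> rw [h]
  · exact (a_facts ty hr (x := 0) (by norm_num)).1
  · exact (a_facts ty hr (x := 0) (by norm_num)).2.1

lemma qmul_w : ∀ e ∈ [0, 16], ∀ f ∈ [0, 16], qmul ty e f = e ^^^ f := by
  cases ty <;> decide

lemma nmul_lt {a b : ℕ} (ha : a < 192) (hb : b < 192) : nmul ty us a b < 192 := by
  have hp : a / 32 < 6 := by omega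
  have hp' : b / 32 < 6 := by omega
  have h1 := qlt ty (qlt ty (Nat.mod_lt a (by norm_num))
    (a_facts ty hp (Nat.mod_lt b (by norm_num))).2.2.1) (wlt us hp hp')
  have h2 := ((p_facts us hp).2.2.2.2 _ hp').1
  unfold nmul
  omega

lemma nmul_assoc {a b c : ℕ} (ha : a < 192) (hb : b < 192) (hc : c < 192) :
    nmul ty us a (nmul ty us b c) = nmul ty us (nmul ty us a b) c := by
  have hx : a % 32 < 32 := Nat.mod_lt a (by norm_num)
  have hy : b % 32 < 32 := Nat.mod_lt b (by norm_num)
  have hz : c % 32 < 32 := Nat.mod_lt c (by norm_num)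
  have hp : a / 32 < 6 := by omega
  have hp' : b / 32 < 6 := by omega
  have hp'' : c / 32 < 6 := by omega
  have p1 := ((p_facts us hp).2.2.2.2 _ hp').1
  have p2 := ((p_facts us hp').2.2.2.2 _ hp'').1
  have ay := (a_facts ty hp hy).2.2.1
  have az' := (a_facts ty hp' hz).2.2.1
  have az := (a_facts ty p1 hz).2.2.1
  have w1 := wlt us hp hp'
  have w2 := wlt us p1 hp''
  have w3 := wlt us hp' hp''
  have w4 := wlt us hp p2
  have q1 := qlt ty (qlt ty hy az') w3
  have q2 := qlt ty (qlt ty hx ay) w1
  have e1 : nmul ty us b c % 32 = qmul ty (qmul ty (b % 32) (act ty (b / 32) (c % 32))) (wq us (b / 32) (c / 32)) ∧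
      nmul ty us b c / 32 = pmul (b / 32) (c / 32) := by unfold nmul; omega
  have e2 : nmul ty us a b % 32 = qmul ty (qmul ty (a % 32) (act ty (a / 32) (b % 32))) (wq us (a / 32) (b / 32)) ∧
      nmul ty us a b / 32 = pmul (a / 32) (b / 32) := by unfold nmul; omega
  obtain ⟨hP, hW⟩ := (((p_facts us hp).2.2.2.2 _ hp').2.2) _ hp''
  conv_lhs => unfold nmul
  conv_rhs => unfold nmul
  simp only [nmul] at e1 e2
  rw [e1.1, e1.2, e2.1, e2.2, hP, (a_facts ty hp (qlt ty hy az')).2.2.2.2.1 _ w3,
    (a_facts ty hp hy).2.2.2.2.1 _ az', (a_facts ty hp hz).2.2.2.2.2 _ hp',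
    wact ty us hp hp' hp'']
  congr 1
  have hc1 : qmul ty (wq us (b / 32) (c / 32)) (wq us (a / 32) (pmul (b / 32) (c / 32))) =
      qmul ty (wq us (a / 32) (b / 32)) (wq us (pmul (a / 32) (b / 32)) (c / 32)) := by
    have m : ∀ {r r' : ℕ}, r < 6 → r' < 6 → wq us r r' ∈ [0, 16] := fun {r r'} hr hr' => by
      rcases ((p_facts us hr).2.2.2.2 r' hr').2.1 with h | h <;> simp [h]
    rw [qmul_w ty _ (m hp' hp'') _ (m hp p2), qmul_w ty _ (m hp hp') _ (m p1 hp''), hW]
  rw [← qassoc ty (qlt ty hx ay) w1 az, wcomm ty us hp hp' az, qassoc ty (qlt ty hx ay) az w1,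
    ← qassoc ty hx ay az, ← qassoc ty (qlt ty hx (qlt ty ay az)) w1 w2, ← hc1,
    qassoc ty (qlt ty hx (qlt ty ay az)) w3 w4, qassoc ty hx (qlt ty ay az) w3]

lemma range_facts {a : ℕ} (ha : a < 192) :
    ninv ty us a < 192 ∧ nmul ty us (ninv ty us a) a = 0 ∧ nmul ty us a 0 = a ∧ nmul ty us 0 a = a := by
  have h := List.all_eq_true.1 (List.all_eq_true.1 (List.all_eq_true.1 inv_check ty (by cases ty <;> simp))
    us (by cases us <;> simp)) a (List.mem_range.2 ha)
  simp only [Bool.and_eq_true, beq_iff_eq, Nat.blt_eq] at h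
  have hp : a / 32 < 6 := by omega
  have hx : a % 32 < 32 := Nat.mod_lt a (by norm_num)
  refine ⟨h.1, h.2, ?_, ?_⟩
  · rw [nmul, (p_facts us hp).1, Nat.zero_mod, Nat.zero_div, (p_facts us hp).2.2.1,
      (a_facts ty hp hx).1, (q_facts ty hx).1, (q_facts ty hx).1]
    omega
  · rw [nmul, Nat.zero_mod, Nat.zero_div, (p_facts us hp).2.1, (p_facts us hp).2.2.2.1,
      (a_facts ty hp hx).2.2.2.1, (q_facts ty hx).2.1, (q_facts ty hx).1]
    omega

variable {ty us}

/-- The group of 192 labels. -/
structure Mdl (ty us : Bool) where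
  /-- The label. -/
  n : Fin 192
deriving DecidableEq

namespace Mdl

variable {ty us : Bool}

/-- A number as a label. -/
def mk' (k : ℕ) : Mdl ty us := ⟨⟨k % 192, Nat.mod_lt _ (by decide)⟩⟩

/-- The label as a number. -/
def val (a : Mdl ty us) : ℕ := a.n.val

lemma val_lt (a : Mdl ty us) : a.val < 192 := a.n.isLt

lemma ext' {a b : Mdl ty us} (h : a.val = b.val) : a = b := by
  obtain ⟨a⟩ := a
  obtain ⟨b⟩ := b
  exact congrArg Mdl.mk (Fin.val_injective h)

lemma val_mk' {k : ℕ} (h : k < 192) : (mk' k : Mdl ty us).val = k := Nat.mod_eq_of_lt h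

lemma mk'_val (a : Mdl ty us) : mk' a.val = a := ext' (val_mk' a.val_lt)

/-- The labels as an enumeration. -/
def equivFin : Mdl ty us ≃ Fin 192 := ⟨fun a => a.n, fun k => ⟨k⟩, fun _ => rfl, fun _ => rfl⟩

instance : Fintype (Mdl ty us) := Fintype.ofEquiv _ equivFin.symm

lemma card : Nat.card (Mdl ty us) = 192 := by
  rw [Nat.card_congr equivFin, Nat.card_fin]

instance : One (Mdl ty us) := ⟨mk' 0⟩
instance : Mul (Mdl ty us) := ⟨fun a b => mk' (nmul ty us a.val b.val)⟩
instance : Inv (Mdl ty us) := ⟨fun a => mk' (ninv ty us a.val)⟩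

lemma one_val : (1 : Mdl ty us).val = 0 := val_mk' (by decide)

lemma mul_val (a b : Mdl ty us) : (a * b).val = nmul ty us a.val b.val :=
  val_mk' (nmul_lt ty us a.val_lt b.val_lt)

lemma inv_val (a : Mdl ty us) : (a⁻¹).val = ninv ty us a.val := val_mk' (range_facts ty us a.val_lt).1

instance : Group (Mdl ty us) :=
  Group.ofLeftAxioms
    (fun a b c => ext' (by simp only [mul_val]; exact (nmul_assoc ty us a.val_lt b.val_lt c.val_lt).symm))
    (fun a => ext' (by rw [mul_val, one_val]; exact (range_facts ty us a.val_lt).2.2.2))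
    (fun a => ext' (by rw [mul_val, inv_val, one_val]; exact (range_facts ty us a.val_lt).2.1))

/-- The central involution. -/
def z : Mdl ty us := mk' 16

/-- An embedding onto the centraliser of `s`. -/
structure Emb (ty us : Bool) {G : Type*} [Group G] (s : G) where
  /-- The embedding. -/
  hom : Mdl ty us →* G
  inj : Function.Injective hom
  range_eq : hom.range = Subgroup.centralizer ({s} : Set G)
  map_z : hom z = s

end Mdl

end Cfsg.Agent.H87.S3344
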