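import Cfsg.Agent.H87.S3344.Gens
import Cfsg.Agent.H87.S3344.Model

/-!
Generators with the relations of a type give an isomorphism with the model.
-/

set_option autoImplicit false

namespace Cfsg.Agent.H87.S3344

/-- Five bits as a number. -/
def nb (i j k l e : Bool) : ℕ :=
  (bif i then 1 else 0) + (bif j then 2 else 0) + (bif k then 4 else 0) + (bif l then 8 else 0) +
    (bif e then 16 else 0)

lemma nb_bits : ∀ q < 32, nb (q.testBit 0) (q.testBit 1) (q.testBit 2) (q.testBit 3) (q.testBit 4) = q := by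
  decide

lemma bits_nb : ∀ i j k l e : Bool, nb i j k l e < 32 ∧ (nb i j k l e).testBit 0 = i ∧
    (nb i j k l e).testBit 1 = j ∧ (nb i j k l e).testBit 2 = k ∧ (nb i j k l e).testBit 3 = l ∧
      (nb i j k l e).testBit 4 = e := by
  decide +kernel

lemma qmul_gens : ∀ ty i j k l e : Bool,
    qmul ty (nb i j k l e) 1 = nb (!i) j k l (e ^^ (l && ty) ^^ (j && !ty) ^^ (i && !ty)) ∧
    qmul ty (nb i j k l e) 2 = nb i (!j) k l (e ^^ (k && ty) ^^ (j && !ty)) ∧
    qmul ty (nb i j k l e) 4 = nb i j (!k) l (e ^^ (l && !ty) ^^ (k && !ty)) ∧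
    qmul ty (nb i j k l e) 8 = nb i j k (!l) (e ^^ (l && !ty)) ∧
    qmul ty (nb i j k l e) 16 = nb i j k l (!e) := by
  decide +kernel

lemma act_gens : ∀ ty : Bool, act ty 1 1 = 2 ∧ act ty 1 2 = 3 ∧ act ty 1 4 = 8 ∧ act ty 1 8 = 12 ∧
    act ty 3 1 = (bif ty then 1 else 17) ∧ act ty 3 2 = (bif ty then 3 else 19) ∧
      act ty 3 4 = (bif ty then 4 else 20) ∧ act ty 3 8 = (bif ty then 12 else 28) := by
  decide +kernel

lemma pmul_eq : ∀ p < 6, ∀ p' < 6, pmul p p' =
    (p % 3 + (if p / 3 = 0 then 1 else 2) * (p' % 3)) % 3 + 3 * ((p / 3 + p' / 3) % 2) := by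
  decide +kernel

lemma wq_eq : ∀ us : Bool, ∀ p < 6, ∀ p' < 6,
    wq us p p' = (bif us && (p / 3 == 1) && (p' / 3 == 1) then 16 else 0) := by
  decide +kernel

variable {L : Type*} [Group L]

/-- The image of a label of the extraspecial group. -/
def evN (s x a c : L) (q : ℕ) : L :=
  ev s x a c (q.testBit 0) (q.testBit 1) (q.testBit 2) (q.testBit 3) (q.testBit 4)

/-- The image of a label of the complement. -/
def evP (x u : L) (p : ℕ) : L := x ^ (p % 3) * u ^ (p / 3)

/-- The image of a label. -/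
def evM (s x u a c : L) (n : ℕ) : L := evN s x a c (n % 32) * evP x u (n / 32)

namespace Gens

variable {Q : Subgroup L} {s x u : L} {ty : Bool} {a c : L} (G : Gens Q s x u (!ty) ty a c)
  (h : Setup Q s x u)
include G h

omit G h in
lemma evN_zero : evN s x a c 0 = 1 := by simp [evN, ev, pw]

omit G h in
lemma evN_small : evN s x a c 1 = a ∧ evN s x a c 2 = x * a * x⁻¹ ∧ evN s x a c 4 = c ∧
    evN s x a c 8 = x * c * x⁻¹ ∧ evN s x a c 16 = s := by
  simp [evN, ev, pw, Nat.testBit]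

lemma evN_mul {q r : ℕ} (hq : q < 32) (hr : r < 32) :
    evN s x a c (qmul ty q r) = evN s x a c q * evN s x a c r := by
  let A : ℕ → Prop := fun g => g < 32 ∧ ∀ q < 32, evN s x a c (qmul ty q g) = evN s x a c q * evN s x a c g
  have hmul : ∀ g k, A g → A k → A (qmul ty g k) := fun g k hg hk => ⟨qlt ty hg.1 hk.1, fun q hq => by
    rw [qassoc ty hq hg.1 hk.1, hk.2 _ (qlt ty hq hg.1), hg.2 q hq, hk.2 g hg.1, mul_assoc]⟩
  have hgen : ∀ g ∈ [0, 1, 2, 4, 8, 16], A g := by
    intro g hg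
    refine ⟨by simp at hg; omega, fun q hq => ?_⟩
    obtain ⟨e1, e2, e4, e8, e16⟩ := qmul_gens ty (q.testBit 0) (q.testBit 1) (q.testBit 2) (q.testBit 3)
      (q.testBit 4)
    rw [nb_bits q hq] at e1 e2 e4 e8 e16
    obtain ⟨s1, s2, s4, s8, s16⟩ := evN_small (s := s) (x := x) (a := a) (c := c)
    simp only [List.mem_cons, List.not_mem_nil, or_false] at hg
    rcases hg with rfl | rfl | rfl | rfl | rfl | rfl
    · rw [(q_facts ty hq).1, evN_zero, mul_one]
    · rw [e1, s1]; simp only [evN, bits_nb, G.ev_mul_a h]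
    · rw [e2, s2]; simp only [evN, bits_nb, G.ev_mul_b h]
    · rw [e4, s4]; simp only [evN, bits_nb, G.ev_mul_c h]
    · rw [e8, s8]; simp only [evN, bits_nb, G.ev_mul_d h]
    · rw [e16, s16]; simp only [evN, bits_nb, ev]
      rw [mul_assoc _ (pw s _) s]
      congr 1
      generalize q.testBit 4 = e
      cases e <;> simp [pw, h.s2]
  have hbit : ∀ (k n : ℕ), k ≤ 4 → A (n &&& 2 ^ k) := by
    intro k n hk
    rw [Nat.and_two_pow]
    rcases Bool.eq_false_or_eq_true (n.testBit k) with h | h <;> rw [h]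
    · exact hgen _ (by interval_cases k <;> simp)
    · exact hgen _ (by simp)
  have hlast : A (r &&& 16 ^^^ (qmul ty (qmul ty (qmul ty (r &&& 1) (r &&& 2)) (r &&& 4)) (r &&& 8) &&& 16)) := by
    rw [show (16 : ℕ) = 2 ^ 4 from rfl, ← Nat.and_xor_distrib_right]
    exact hbit 4 _ le_rfl
  have hA : A (qform ty r) := hmul _ _ (hmul _ _ (hmul _ _ (hmul _ _ (hbit 0 r (by omega))
    (hbit 1 r (by omega))) (hbit 2 r (by omega))) (hbit 3 r (by omega))) hlast
  rw [(q_facts ty hr).2.2.1] at hA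
  exact hA.2 q hq

lemma conj_gens {g : L} {p : ℕ} (hp : p < 6)
    (hgens : ∀ r ∈ [0, 1, 2, 4, 8, 16], g * evN s x a c r * g⁻¹ = evN s x a c (act ty p r))
    {q : ℕ} (hq : q < 32) : g * evN s x a c q * g⁻¹ = evN s x a c (act ty p q) := by
  let A : ℕ → Prop := fun r => r < 32 ∧ g * evN s x a c r * g⁻¹ = evN s x a c (act ty p r)
  have hmul : ∀ r k, A r → A k → A (qmul ty r k) := fun r k hr hk => ⟨qlt ty hr.1 hk.1, by
    rw [(a_facts ty hp hr.1).2.2.2.2.1 k hk.1, G.evN_mul h hr.1 hk.1,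
      G.evN_mul h (a_facts ty hp hr.1).2.2.1 (a_facts ty hp hk.1).2.2.1, ← hr.2, ← hk.2]
    group⟩
  have hgen : ∀ r ∈ [0, 1, 2, 4, 8, 16], A r := fun r hr => ⟨by simp at hr; omega, hgens r hr⟩
  have hbit : ∀ (k n : ℕ), k ≤ 4 → A (n &&& 2 ^ k) := by
    intro k n hk
    rw [Nat.and_two_pow]
    rcases Bool.eq_false_or_eq_true (n.testBit k) with h | h <;> rw [h]
    · exact hgen _ (by interval_cases k <;> simp)
    · exact hgen _ (by simp)
  have hlast : A (q &&& 16 ^^^ (qmul ty (qmul ty (qmul ty (q &&& 1) (q &&& 2)) (q &&& 4)) (q &&& 8) &&& 16)) := by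
    rw [show (16 : ℕ) = 2 ^ 4 from rfl, ← Nat.and_xor_distrib_right]
    exact hbit 4 _ le_rfl
  have hA : A (qform ty q) := hmul _ _ (hmul _ _ (hmul _ _ (hmul _ _ (hbit 0 q (by omega))
    (hbit 1 q (by omega))) (hbit 2 q (by omega))) (hbit 3 q (by omega))) hlast
  rw [(q_facts ty hq).2.2.1] at hA
  exact hA.2

lemma conj_x {q : ℕ} (hq : q < 32) : x * evN s x a c q * x⁻¹ = evN s x a c (act ty 1 q) := by
  refine G.conj_gens h (by norm_num) (fun r hr => ?_) hq
  obtain ⟨g1, g2, g4, g8, -⟩ := act_gens ty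
  obtain ⟨s1, s2, s4, s8, s16⟩ := evN_small (s := s) (x := x) (a := a) (c := c)
  simp only [List.mem_cons, List.not_mem_nil, or_false] at hr
  rcases hr with rfl | rfl | rfl | rfl | rfl | rfl
  · rw [(a_facts ty (by norm_num : 1 < 6) (by norm_num : 0 < 32)).1, evN_zero]; group
  · rw [g1, s1, s2]
  · rw [g2, s2, G.a_x]; simp [evN, ev, pw, Nat.testBit]
  · rw [g4, s4, s8]
  · rw [g8, s8, G.c_x]; simp [evN, ev, pw, Nat.testBit]
  · rw [(a_facts ty (by norm_num : 1 < 6) (by norm_num : 0 < 32)).2.1, s16]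
    exact h.conj_pw x true

lemma conj_u {q : ℕ} (hq : q < 32) : u * evN s x a c q * u⁻¹ = evN s x a c (act ty 3 q) := by
  refine G.conj_gens h (by norm_num) (fun r hr => ?_) hq
  obtain ⟨-, -, -, -, g1, g2, g4, g8⟩ := act_gens ty
  obtain ⟨s1, s2, s4, s8, s16⟩ := evN_small (s := s) (x := x) (a := a) (c := c)
  simp only [List.mem_cons, List.not_mem_nil, or_false] at hr
  rcases hr with rfl | rfl | rfl | rfl | rfl | rfl
  · rw [(a_facts ty (by norm_num : 3 < 6) (by norm_num : 0 < 32)).1, evN_zero]; group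
  · rw [g1, s1, G.a_u]; cases ty <;> simp [evN, ev, pw, Nat.testBit]
  · rw [g2, s2, h.conj_ux, G.a_u, h.conj_mul_pw, h.conj_mul_pw, G.a_x]
    cases ty <;> simp [evN, ev, pw, Nat.testBit]
  · rw [g4, s4, G.c_u]; cases ty <;> simp [evN, ev, pw, Nat.testBit]
  · rw [g8, s8, h.conj_ux, G.c_u, h.conj_mul_pw, h.conj_mul_pw, G.c_x]
    cases ty <;> simp [evN, ev, pw, Nat.testBit]
  · rw [(a_facts ty (by norm_num : 3 < 6) (by norm_num : 0 < 32)).2.1, s16]
    exact h.conj_pw u true

variable {us : Bool} (hus : u * u = pw s us)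
include hus

omit G in
lemma evP_mul {p p' : ℕ} (hp : p < 6) (hp' : p' < 6) :
    evP x u p * evP x u p' = evN s x a c (wq us p p') * evP x u (pmul p p') := by
  have hx3 : x ^ 3 = 1 := by rw [pow_three, ← mul_assoc, h.x3]
  have hxm : ∀ n, x ^ (n % 3) = x ^ n := fun n => (pow_eq_pow_mod n hx3).symm
  have hux : ∀ k, u * x ^ k = x ^ (2 * k) * u := fun k => by
    rw [pow_mul, sq, ← h.ux, conj_pow]; group
  rw [pmul_eq p hp p' hp', wq_eq us p hp p' hp', evP, evP, evP]
  have hi : p % 3 < 3 := Nat.mod_lt p (by norm_num)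
  have hk : p' % 3 < 3 := Nat.mod_lt p' (by norm_num)
  generalize p % 3 = i at hi
  generalize p' % 3 = k at hk
  have e3 : ∀ n m, (n % 3 + 3 * m) % 3 = n % 3 ∧ (n % 3 + 3 * m) / 3 = m := fun n m => by omega
  rcases (show p / 3 = 0 ∨ p / 3 = 1 by omega) with hj | hj <;>
    rcases (show p' / 3 = 0 ∨ p' / 3 = 1 by omega) with hl | hl <;> rw [hj, hl] <;>
    simp only [(e3 _ _).1, (e3 _ _).2, hxm] <;>
    simp only [pow_zero, pow_one, mul_one, zero_ne_one, one_ne_zero, if_true, if_false, Nat.zero_mod,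
      one_mul, zero_add, add_zero, Nat.one_mod, Bool.and_false, beq_self_eq_true, Bool.and_true,
      show ((0 : ℕ) == 1) = false from rfl, cond_false, show (1 + 1) % 2 = 0 from rfl, evN_zero, hxm]
  · rw [pow_add]
  · rw [pow_add, mul_assoc]
  · rw [mul_assoc, hux, ← mul_assoc, pow_add]
  · rw [mul_assoc, ← mul_assoc u, hux, mul_assoc _ u u, hus, ← mul_assoc, ← pow_add, h.pw_comm]
    cases us <;> simp [evN, ev, pw, Nat.testBit]

lemma conj_evP {p q : ℕ} (hp : p < 6) (hq : q < 32) :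
    evP x u p * evN s x a c q = evN s x a c (act ty p q) * evP x u p := by
  let A : ℕ → Prop := fun r => r < 6 ∧ ∀ q < 32,
    evP x u r * evN s x a c q = evN s x a c (act ty r q) * evP x u r
  have hmul : ∀ r k, A r → A k → A (pmul r k) := fun r k hr hk => by
    have hrk := ((p_facts us hr.1).2.2.2.2 k hk.1).1
    refine ⟨hrk, fun q hq => ?_⟩
    have hw : ∃ t, evN s x a c (wq us r k) = pw s t := by
      rw [wq_eq us r hr.1 k hk.1]
      generalize (us && (r / 3 == 1) && (k / 3 == 1)) = t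
      exact ⟨t, by cases t <;> simp [evN, ev, pw, Nat.testBit]⟩
    obtain ⟨t, ht⟩ := hw
    have hm := evP_mul h hus hr.1 hk.1 (a := a) (c := c)
    rw [ht] at hm
    have hP : evP x u (pmul r k) = pw s t * (evP x u r * evP x u k) := by
      rw [hm, ← mul_assoc, h.pw_self, one_mul]
    rw [hP, ← (a_facts ty hr.1 hq).2.2.2.2.2 k hk.1]
    have ha := (a_facts ty hk.1 hq).2.2.1
    calc pw s t * (evP x u r * evP x u k) * evN s x a c q
        = pw s t * (evP x u r * (evP x u k * evN s x a c q)) := by group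
      _ = pw s t * (evN s x a c (act ty r (act ty k q)) * (evP x u r * evP x u k)) := by
        rw [hk.2 q hq, ← mul_assoc (evP x u r), hr.2 _ ha, mul_assoc (evN s x a c (act ty r _))]
      _ = evN s x a c (act ty r (act ty k q)) * (pw s t * (evP x u r * evP x u k)) := by
        rw [← mul_assoc, ← h.pw_comm, mul_assoc]
  have a0 : A 0 := ⟨by norm_num, fun q hq => by
    rw [(a_facts ty (by norm_num : 0 < 6) hq).2.2.2.1]; simp [evP]⟩
  have a1 : A 1 := ⟨by norm_num, fun q hq => by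
    rw [← G.conj_x h hq]; simp [evP]⟩
  have a3 : A 3 := ⟨by norm_num, fun q hq => by
    rw [← G.conj_u h hq]; simp [evP]⟩
  have hA : A p := by
    interval_cases p
    · exact a0
    · exact a1
    · exact (show pmul 1 1 = 2 by decide +kernel) ▸ hmul 1 1 a1 a1
    · exact a3
    · exact (show pmul 1 3 = 4 by decide +kernel) ▸ hmul 1 3 a1 a3
    · exact (show pmul (pmul 1 1) 3 = 5 by decide +kernel) ▸ hmul _ 3 (hmul 1 1 a1 a1) a3
  exact hA.2 q hq

lemma evM_mul {m n : ℕ} (hm : m < 192) (hn : n < 192) :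
    evM s x u a c (nmul ty us m n) = evM s x u a c m * evM s x u a c n := by
  have hp : m / 32 < 6 := by omega
  have hp' : n / 32 < 6 := by omega
  have hq : m % 32 < 32 := Nat.mod_lt m (by norm_num)
  have hq' : n % 32 < 32 := Nat.mod_lt n (by norm_num)
  have ha := (a_facts ty hp hq').2.2.1
  have hw := wlt us hp hp'
  have h1 := qlt ty (qlt ty hq ha) hw
  have e1 : nmul ty us m n % 32 = qmul ty (qmul ty (m % 32) (act ty (m / 32) (n % 32))) (wq us (m / 32) (n / 32)) ∧
      nmul ty us m n / 32 = pmul (m / 32) (n / 32) := by unfold nmul; omega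
  rw [evM, e1.1, e1.2, G.evN_mul h (qlt ty hq ha) hw, G.evN_mul h hq ha, evM, evM]
  calc evN s x a c (m % 32) * evN s x a c (act ty (m / 32) (n % 32)) * evN s x a c (wq us (m / 32) (n / 32)) *
        evP x u (pmul (m / 32) (n / 32))
      = evN s x a c (m % 32) * evN s x a c (act ty (m / 32) (n % 32)) * (evP x u (m / 32) * evP x u (n / 32)) := by
        rw [evP_mul h hus hp hp' (a := a) (c := c)]; group
    _ = evN s x a c (m % 32) * (evN s x a c (act ty (m / 32) (n % 32)) * evP x u (m / 32)) * evP x u (n / 32) := by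
        group
    _ = _ := by rw [← G.conj_evP h hus hp hq']; group

/-- The homomorphism from the model. -/
def modelHom : Mdl ty us →* L :=
  MonoidHom.mk' (fun n => evM s x u a c n.val) fun m n => by
    rw [Mdl.mul_val, G.evM_mul h hus m.val_lt n.val_lt]

lemma modelHom_z : G.modelHom h hus Mdl.z = s := by
  show evM s x u a c (Mdl.z : Mdl ty us).val = s
  rw [Mdl.z, Mdl.val_mk' (by norm_num)]
  simp [evM, evP, (evN_small (s := s) (x := x) (a := a) (c := c)).2.2.2.2]

lemma modelHom_injective (hI : Ind s a c) : Function.Injective (G.modelHom h hus) := by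
  rw [injective_iff_map_eq_one]
  intro n hn
  have hn' : evN s x a c (n.val % 32) * evP x u (n.val / 32) = 1 := hn
  have hpQ : evP x u (n.val / 32) ∈ Q := by
    rw [eq_inv_of_mul_eq_one_right hn']
    exact Q.inv_mem (G.ev_mem h _ _ _ _ _)
  have hxQ : x ∉ Q := fun hx => by
    rcases h.sq x hx with e | e
    · exact h.x1 (by have := h.x3; rwa [e, one_mul] at this)
    · have := h.x3
      rw [e] at this
      have hxs : x = s := by rw [← inv_eq_of_mul_eq_one_right this]; exact inv_eq_of_mul_eq_one_right h.s2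
      rw [hxs, h.s2] at e
      exact h.s1 e.symm
  have hp0 : n.val / 32 = 0 := by
    by_contra hp
    have hlt := n.val_lt
    obtain ⟨p, hp6, hpe⟩ : ∃ p, p < 6 ∧ p = n.val / 32 := ⟨_, by omega, rfl⟩
    rw [← hpe] at hpQ hp
    apply hxQ
    rcases (show p / 3 = 0 ∨ p / 3 = 1 by omega) with hj | hj
    · rw [evP, hj, pow_zero, mul_one] at hpQ
      rcases (show p % 3 = 1 ∨ p % 3 = 2 by omega) with hi | hi <;> rw [hi] at hpQ
      · simpa using hpQ
      · have := Q.mul_mem hpQ hpQ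
        rwa [sq, show x * x * (x * x) = x * x * x * x by group, h.x3, one_mul] at this
    · rw [evP, hj, pow_one] at hpQ
      set w := x ^ (p % 3) * u with hw
      have h1 : w * x * w⁻¹ = x * x := by
        rw [hw, show x ^ (p % 3) * u * x * (x ^ (p % 3) * u)⁻¹ =
          x ^ (p % 3) * (u * x * u⁻¹) * (x ^ (p % 3))⁻¹ by group, h.ux, mul_inv_eq_iff_eq_mul, ← sq,
          ← pow_add, ← pow_add, add_comm]
      have h2 : w * (x * w⁻¹ * x⁻¹) ∈ Q := Q.mul_mem hpQ (h.mem_conj x (Q.inv_mem hpQ))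
      rwa [← mul_assoc, ← mul_assoc, h1, mul_inv_cancel_right] at h2
  rw [hp0] at hn'
  have he : evN s x a c (n.val % 32) = evN s x a c 0 := by
    rw [evN_zero]; simpa [evP] using hn'
  obtain ⟨b0, b1, b2, b3, b4⟩ := G.ev_injective h hI he
  have h0 := nb_bits (n.val % 32) (Nat.mod_lt _ (by norm_num))
  rw [b0, b1, b2, b3, b4, nb_bits 0 (by norm_num)] at h0
  refine Mdl.ext' ?_
  rw [Mdl.one_val]
  omega

end Gens

end Cfsg.Agent.H87.S3344
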