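import Cfsg.Agent.H54.JFour.Elem
import Cfsg.Agent.H27.SevenPoints

/-!
A group of order 1344 with a self-centralising normal elementary abelian subgroup of order 8 has
quotient the projective special linear group of degree three over two elements.
-/

set_option autoImplicit false

namespace Cfsg.Agent.H87.S3344

open Subgroup

theorem psl_quotient {G : Type*} [Group G] [Finite G] (V : Subgroup G) [hV : V.Normal]
    (hc : ∀ a ∈ V, ∀ b ∈ V, a * b = b * a) (h2 : ∀ a ∈ V, a ^ 2 = 1) (h8 : Nat.card V = 8)
    (hC : centralizer (V : Set G) ≤ V) (hG : Nat.card G = 1344) :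
    Nonempty (G ⧸ V ≃* Matrix.ProjectiveSpecialLinearGroup (Fin 3) (ZMod 2)) := by
  obtain ⟨e⟩ := H54.JFour.exists_coords (A := V) (fun a b => Subtype.ext (hc a a.2 b b.2))
    (fun a => Subtype.ext (h2 a a.2)) h8
  let f : G →* GL (Fin 3) (ZMod 2) := ((H54.JFour.toMat e).comp (MulAut.conjNormal)).toHomUnits
  have hker : f.ker = V := by
    ext g
    rw [MonoidHom.mem_ker, Units.ext_iff, MonoidHom.coe_toHomUnits, Units.val_one, MonoidHom.comp_apply,
      ← map_one (H54.JFour.toMat e), (H54.JFour.toMat_injective e).eq_iff, MulEquiv.ext_iff]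
    constructor
    · intro h
      refine hC (mem_centralizer_iff.2 fun a ha => ?_)
      have h1 := congrArg Subtype.val (h ⟨a, ha⟩)
      simp only [MulAut.conjNormal_apply, MulAut.one_apply] at h1
      exact ((mul_inv_eq_iff_eq_mul).1 h1).symm
    · intro h a
      refine Subtype.ext ?_
      rw [MulAut.conjNormal_apply, MulAut.one_apply, hc g h a a.2, mul_inv_cancel_right]
  have hinj : Function.Injective (QuotientGroup.lift V f hker.ge) := by
    rw [← MonoidHom.ker_eq_bot_iff, QuotientGroup.ker_lift, hker, QuotientGroup.map_mk'_self]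
  have hidx : Nat.card (G ⧸ V) = 168 := by
    have h := V.card_eq_card_quotient_mul_card_subgroup
    rw [hG, h8] at h
    omega
  have hbij : Function.Bijective (QuotientGroup.lift V f hker.ge) :=
    (Nat.bijective_iff_injective_and_card _).2 ⟨hinj, by rw [hidx, H27.SevenPoints.card_GL_three_two]⟩
  obtain ⟨g⟩ := H27.SevenPoints.psl_three_two_equiv (K := ZMod 2) (ZMod.card 2)
  exact ⟨(MulEquiv.ofBijective _ hbij).trans g.symm⟩

end Cfsg.Agent.H87.S3344
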