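import Cfsg.Agent.H87.S3344.Fusion
import Cfsg.Agent.H87.S3344.Quot
import Cfsg.Agent.PGroups.SmallExtraspecial.Residue

/-!
The normalisers of the normal elementary abelian subgroups of order 8.
-/

set_option autoImplicit false

namespace Cfsg.Agent.H87.S3344

open Subgroup PGroups.SmallExtraspecial

variable {ty : Bool} {G : Type*} [Group G] {s : G}

/-- The subgroup of `G` belonging to a mask. -/
def vG (E : Mdl.Emb ty false s) (V : ℕ) (hV : V ∈ vMasks ty) : Subgroup G := (vSub V hV).map E.hom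

variable (E : Mdl.Emb ty false s) {V : ℕ} (hV : V ∈ vMasks ty)

lemma hom_mem_vG {n : Mdl ty false} : E.hom n ∈ vG E V hV ↔ V.testBit n.val = true :=
  mem_map_iff_mem E.inj

lemma z_bit (hV : V ∈ vMasks ty) : V.testBit (Mdl.z : Mdl ty false).val = true := by
  rw [Mdl.z_val]; exact (mask_facts hV).2.1

lemma s_mem_vG : s ∈ vG E V hV := ⟨Mdl.z, z_bit hV, E.map_z⟩

lemma card_vG : Nat.card (vG E V hV) = 8 := by
  rw [vG, card_map_of_injective E.inj, card_vSub hV]

variable [Finite G]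

lemma cent_le_normalizer : centralizer ({s} : Set G) ≤ normalizer (vG E V hV : Set G) := by
  intro g hg
  obtain ⟨m, rfl⟩ := E.mem_iff.1 (mem_centralizer_singleton_iff.1 hg)
  refine mem_normalizer_of_conj_mem fun x hx => ?_
  obtain ⟨n, hn, rfl⟩ := hx
  rw [← map_inv, ← map_mul, ← map_mul, hom_mem_vG]
  exact (((mask_facts hV).2.2.2 n hn).2.2 m).1

theorem sett_of_moved (hmove : ∃ h ∈ normalizer (vG E V hV : Set G), h * s * h⁻¹ ≠ s) :
    Sett s (vG E V hV) := by
  refine ⟨E.order_two, s_mem_vG E hV, ?_, card_vG E hV, cent_le_normalizer E hV, fun g hg => ?_,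
    fun v hv hv1 => ?_, E.card_cent, fun y hy hy3 v hv hyv => ?_⟩
  · rintro _ ⟨n, hn, rfl⟩
    rw [← map_mul, ((mask_facts hV).2.2.2 n hn).2.1, map_one]
  · obtain ⟨m, rfl⟩ := E.mem_iff.1 (hg s (s_mem_vG E hV))
    exact (hom_mem_vG E hV).2 (self_cent hV fun v hv => E.comm_iff.1 (hg _ ((hom_mem_vG E hV).2 hv)))
  · obtain ⟨h, hh, hne⟩ := hmove
    by_cases hvs : v = s
    · exact ⟨1, one_mem _, by rw [hvs]; group⟩
    obtain ⟨n, hn, rfl⟩ := hv
    obtain ⟨n₀, hn₀, e₀⟩ := (mem_normalizer_iff.1 hh s).1 (s_mem_vG E hV)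
    have h01 : n₀ ≠ 1 := by
      rintro rfl
      rw [map_one] at e₀
      exact (two_iff.1 E.order_two).2 (conj_eq_one_iff.1 e₀.symm)
    have h0z : n₀ ≠ Mdl.z := fun e => hne (by rw [← e₀, e, E.map_z])
    obtain ⟨l, hl⟩ := conj_of_mask hV hn hn₀ (fun e => hv1 (by rw [e, map_one]))
      (fun e => hvs (by rw [e, E.map_z])) h01 h0z
    refine ⟨h⁻¹ * E.hom l, mul_mem (inv_mem hh)
      (cent_le_normalizer E hV (mem_centralizer_singleton_iff.2 (E.comm l))), ?_⟩
    calc h⁻¹ * E.hom l * E.hom n * (h⁻¹ * E.hom l)⁻¹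
        = h⁻¹ * (E.hom l * E.hom n * (E.hom l)⁻¹) * h := by group
      _ = h⁻¹ * (h * s * h⁻¹) * h := by rw [← map_inv, ← map_mul, ← map_mul, hl, e₀]
      _ = s := by group
  · obtain ⟨m, rfl⟩ := E.mem_iff.1 hy
    obtain ⟨n, hn, rfl⟩ := hv
    have h3 : m * m * m = 1 := E.inj (by
      rw [map_mul, map_mul, map_one, mul_assoc, ← pow_three, ← hy3, pow_orderOf_eq_one])
    have h1 : m ≠ 1 := fun e => by rw [e, map_one, orderOf_one] at hy3; omega
    rcases (((mask_facts hV).2.2.2 n hn).2.2 m).2.2 h3 h1 (E.comm_iff.1 hyv) with e | e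
    · exact Or.inl (by rw [e, map_one])
    · exact Or.inr (by rw [e, E.map_z])

/-- A conjugate of `s` in the normaliser outside the subgroup gives one in `Q` outside it. -/
theorem low_conj (h : Sett s (vG E V hV)) {g : G} (hgN : g * s * g⁻¹ ∈ normalizer (vG E V hV : Set G))
    (hgV : g * s * g⁻¹ ∉ vG E V hV) :
    ∃ (k : G) (a : Mdl ty false), k * s * k⁻¹ = E.hom a ∧ a ≠ Mdl.z ∧ a.val < 32 ∧ V.testBit a.val = false := by
  set U := vG E V hV with hU
  set w := g * s * g⁻¹ with hw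
  have hww : w * w = 1 := (two_iff.1 (two_conj h.order g)).1
  have hwU : ∀ u ∈ U, w * u * w⁻¹ ∈ U := fun u hu => (mem_normalizer_iff.1 hgN u).1 hu
  let φ : U →* U :=
    { toFun := fun u => ⟨u * (w * u * w⁻¹), mul_mem u.2 (hwU u u.2)⟩
      map_one' := Subtype.ext (by simp)
      map_mul' := fun a b => Subtype.ext (by
        show (a : G) * b * (w * (a * b) * w⁻¹) = a * (w * a * w⁻¹) * (b * (w * b * w⁻¹))
        calc (a : G) * b * (w * (a * b) * w⁻¹) = a * (b * (w * a * w⁻¹)) * (w * b * w⁻¹) := by group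
          _ = a * (w * a * w⁻¹ * b) * (w * b * w⁻¹) := by rw [h.comm b.2 (hwU a a.2)]
          _ = _ := by group) }
  have hfix : ∀ u : U, w * (φ u : G) * w⁻¹ = φ u := fun u => by
    show w * ((u : G) * (w * u * w⁻¹)) * w⁻¹ = u * (w * u * w⁻¹)
    rw [show w * ((u : G) * (w * u * w⁻¹)) * w⁻¹ = w * u * w⁻¹ * (w * w * u * (w * w)⁻¹) by group, hww,
      show (1 : G) * u * (1 : G)⁻¹ = u by group, h.comm (hwU u u.2) u.2]
  have hrk : φ.range ≤ φ.ker := by
    rintro _ ⟨u, rfl⟩
    refine MonoidHom.mem_ker.2 (Subtype.ext ?_)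
    show (φ u : G) * (w * (φ u : G) * w⁻¹) = 1
    rw [hfix, h.sq _ (φ u).2]
  have hcard : Nat.card φ.range * Nat.card φ.ker = 8 := by
    rw [← Subgroup.index_ker φ, mul_comm, Subgroup.card_mul_index, h.card]
  have hR : Nat.card φ.range ≤ 2 := by
    have h1 := Subgroup.card_le_of_le hrk
    by_contra h3
    have : 3 * 3 ≤ Nat.card φ.range * Nat.card φ.ker := Nat.mul_le_mul (by omega) (by omega)
    omega
  obtain ⟨u₀, hu₀⟩ : ∃ u : U, φ u ≠ 1 := by
    by_contra hall
    push Not at hall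
    refine hgV (h.self w fun v hv => ?_)
    have e : v * (w * v * w⁻¹) = 1 := congrArg Subtype.val (hall ⟨v, hv⟩)
    have e' : w * v * w⁻¹ = v := by
      rw [← inv_eq_of_mul_eq_one_right e]; exact inv_eq_of_mul_eq_one_right (h.sq v hv)
    exact mul_inv_eq_iff_eq_mul.1 e'
  have hval : ∀ u, φ u = 1 ∨ φ u = φ u₀ := by
    intro u
    by_contra hne
    push Not at hne
    classical
    haveI := Fintype.ofFinite G
    have h3 : ({1, φ u₀, φ u} : Finset U).card = 3 :=
      Finset.card_eq_three.2 ⟨_, _, _, hu₀.symm, hne.1.symm, hne.2.symm, rfl⟩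
    have hle : ({1, φ u₀, φ u} : Finset U).card ≤ Nat.card φ.range := by
      rw [Nat.card_eq_fintype_card, Fintype.card_subtype]
      refine Finset.card_le_card fun x hx => ?_
      simp only [Finset.mem_insert, Finset.mem_singleton] at hx
      rw [Finset.mem_filter]
      refine ⟨Finset.mem_univ _, ?_⟩
      rcases hx with rfl | rfl | rfl
      · exact one_mem _
      · exact ⟨u₀, rfl⟩
      · exact ⟨u, rfl⟩
    omega
  obtain ⟨m, hm, hms⟩ := h.trans (φ u₀ : G) (φ u₀).2 fun e => hu₀ (Subtype.ext e)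
  have hcs : m * w * m⁻¹ * s = s * (m * w * m⁻¹) := by
    rw [← hms]; exact conj_comm_iff.2 (mul_inv_eq_iff_eq_mul.1 (hfix u₀))
  obtain ⟨a, ha⟩ := E.mem_iff.1 hcs
  have haV : V.testBit a.val = false := by
    refine Bool.eq_false_iff.2 fun hb => hgV ?_
    have h1 : m * w * m⁻¹ ∈ U := by rw [← ha]; exact (hom_mem_vG E hV).2 hb
    exact (mem_normalizer_iff.1 hm w).2 h1
  refine ⟨m * g, a, by rw [ha, hw]; group, fun e => ?_, low_of_comm hV fun v hv => ?_, haV⟩
  · rw [e, z_bit hV] at haV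
    exact Bool.false_ne_true haV.symm
  · set u : G := m⁻¹ * E.hom v * m with hu
    have huU : u ∈ U := (mem_normalizer_iff.1 hm u).2 (by
      rw [hu, show m * (m⁻¹ * E.hom v * m) * m⁻¹ = E.hom v by group]; exact (hom_mem_vG E hV).2 hv)
    have e : E.hom (v * (a * v * a⁻¹)) = m * (u * (w * u * w⁻¹)) * m⁻¹ := by
      rw [map_mul, map_mul, map_mul, map_inv, ha, hu]; group
    rcases hval ⟨u, huU⟩ with h1 | h1
    · left
      have h1' : u * (w * u * w⁻¹) = 1 := congrArg Subtype.val h1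
      rw [h1', mul_one, mul_inv_cancel, ← map_one E.hom] at e
      exact E.inj e
    · right
      have h1' : u * (w * u * w⁻¹) = (φ u₀ : G) := congrArg Subtype.val h1
      rw [h1', hms] at e
      exact E.inj (e.trans E.map_z.symm)

/-- If no conjugate of `s` in `Q` lies outside the subgroup, `G` is an extension of it by `L₃(2)`. -/
theorem psl_branch (h : Sett s (vG E V hV))
    (hout : ∀ (k : G) (a : Mdl ty false), k * s * k⁻¹ = E.hom a → a ≠ Mdl.z → a.val < 32 →
      V.testBit a.val = true) :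
    ∃ (N : Subgroup G) (hN : N.Normal), IsMulCommutative N ∧ (∀ n ∈ N, n ^ 2 = 1) ∧ Nat.card N = 8 ∧
      Nonempty (G ⧸ N ≃* Matrix.ProjectiveSpecialLinearGroup (Fin 3) (ZMod 2)) := by
  obtain ⟨w, hw2, hw1, hwV⟩ := exists_outer hV
  have htop : normalizer (vG E V hV : Set G) = ⊤ := by
    refine h.normalizer_eq_top (fun g hg => by_contra fun hgV => ?_) (w := E.hom w)
      (two_iff.2 ⟨by rw [← map_mul, hw2, map_one], fun e => hw1 (E.inj (e.trans (map_one _).symm))⟩)
      (h.norm (mem_centralizer_singleton_iff.2 (E.comm w))) (fun hm => ?_)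
    · obtain ⟨k, a, hk, haz, ha, hf⟩ := low_conj E hV h hg hgV
      rw [hout k a hk haz ha] at hf
      exact Bool.false_ne_true hf.symm
    · rw [(hom_mem_vG E hV).1 hm] at hwV
      exact Bool.false_ne_true hwV.symm
  haveI hN : (vG E V hV).Normal := normalizer_eq_top_iff.1 htop
  refine ⟨_, hN, ⟨⟨fun a b => Subtype.ext (h.comm a.2 b.2)⟩⟩,
    fun n hn => by rw [sq]; exact h.sq n hn, h.card,
    psl_quotient _ (fun a ha b hb => h.comm ha hb) (fun a ha => by rw [sq]; exact h.sq a ha) h.card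
      (fun g hg => h.self g fun v hv => (mem_centralizer_iff.1 hg v hv).symm) ?_⟩
  have hM := h.card_M
  rwa [htop, card_top] at hM

end Cfsg.Agent.H87.S3344
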