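import Cfsg.Agent.H87.S3344.Local
import Cfsg.Agent.PGroups.Basic

/-!
In the type of `M₁₂`, if the normaliser of the subgroup of order 8 fixes `s`, the group is simple.
-/

set_option autoImplicit false

namespace Cfsg.Agent.H87.S3344

open Subgroup PGroups.SmallExtraspecial

/-- The mask of the type of `M₁₂`. -/
def mV : ℕ := 2216789025

lemma mV_mem : mV ∈ vMasks false := List.mem_singleton.2 rfl

lemma extra_check :
    ((List.range 32).all fun q => mV.testBit q || [1, 4].all fun t => (List.range 192).any fun g =>
      mV.testBit (nmul false false (ninv false false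
        (nmul false false (nmul false false g q) (ninv false false g))) t)) = true ∧
    ((List.range 32).all fun a => !mV.testBit a || a == 0 || a == 16 || (List.range 32).any fun p =>
      (List.range 32).any fun q => cmB false false p a && cmB false false q a && comB false false p q == 16) = true ∧
    ((List.range 32).all fun p => nmul false false (nmul false false p p) (nmul false false p p) == 0 &&
      (List.range 32).all fun q => comB false false p q == 0 || comB false false p q == 16) = true := by
  decide +kernel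

/-- The Sylow 2-subgroup of a model without correction. -/
def tSub (ty : Bool) : Subgroup (Mdl ty false) where
  carrier := {n | tB n.val = true}
  mul_mem' {a b} ha hb := by
    have h := List.all_eq_true.1 t_check ty (by cases ty <;> simp)
    simp only [Bool.and_eq_true, List.all_eq_true, List.mem_range, Bool.or_eq_true, Bool.not_eq_true'] at h
    have h1 := (h.2 a.val a.val_lt).resolve_left (by rw [show tB a.val = true from ha]; simp)
    show tB (a * b).val = true
    rw [Mdl.mul_val]
    exact (h1 b.val b.val_lt).resolve_left (by rw [show tB b.val = true from hb]; simp)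
  one_mem' := by show tB (1 : Mdl ty false).val = true; rw [Mdl.one_val]; rfl
  inv_mem' {a} ha := by
    have hinv : a⁻¹ = a ^ (Nat.card (Mdl ty false) - 1) :=
      inv_eq_of_mul_eq_one_right (by
        rw [← pow_succ', Nat.sub_add_cancel Nat.card_pos, pow_card_eq_one'])
    have hk : ∀ k : ℕ, tB (a ^ k).val = true := by
      intro k
      induction k with
      | zero => rw [pow_zero, Mdl.one_val]; rfl
      | succ k ih =>
        have h := List.all_eq_true.1 t_check ty (by cases ty <;> simp)
        simp only [Bool.and_eq_true, List.all_eq_true, List.mem_range, Bool.or_eq_true, Bool.not_eq_true'] at h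
        have h1 := (h.2 _ (a ^ k).val_lt).resolve_left (by rw [ih]; simp)
        rw [pow_succ, Mdl.mul_val]
        exact (h1 a.val a.val_lt).resolve_left (by rw [show tB a.val = true from ha]; simp)
    show tB (a⁻¹).val = true
    rw [hinv]
    exact hk _

lemma card_tSub (ty : Bool) : Nat.card (tSub ty) = 64 := by
  have h := List.all_eq_true.1 t_check ty (by cases ty <;> simp)
  simp only [Bool.and_eq_true, beq_iff_eq] at h
  exact (Mdl.nat_card_filter (ty := ty) (us := false) tB).trans h.1.2

lemma z_mem_tSub (ty : Bool) : Mdl.z ∈ tSub ty := by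
  show tB (Mdl.z : Mdl ty false).val = true
  rw [Mdl.z_val]; rfl

lemma tSub_center {ty : Bool} {m : Mdl ty false} (hm : m ∈ tSub ty) (h : ∀ t ∈ tSub ty, t * m = m * t) :
    m = 1 ∨ m = Mdl.z := by
  have hc := List.all_eq_true.1 center_check ty (by cases ty <;> simp)
  simp only [List.all_eq_true, List.mem_range, Bool.or_eq_true, Bool.not_eq_true', beq_iff_eq,
    List.any_eq_true, Bool.and_eq_true] at hc
  rcases hc m.val m.val_lt with ((h0 | h0) | h0) | ⟨t, ht, htT, htm⟩
  · exact absurd (show tB m.val = true from hm) (by rw [h0]; simp)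
  · exact Or.inl (Mdl.ext' (h0.trans Mdl.one_val.symm))
  · exact Or.inr (Mdl.ext' (h0.trans Mdl.z_val.symm))
  · have := Mdl.cm_iff.2 (h (Mdl.mk' t) (show tB (Mdl.mk' t : Mdl ty false).val = true by
      rw [Mdl.val_mk' ht]; exact htT))
    rw [Mdl.val_mk' ht, htm] at this
    exact absurd this (by simp)

variable {ty : Bool} {G : Type*} [Group G] [Finite G] {s : G} (E : Mdl.Emb ty false s)

/-- An element normalising the image of the Sylow subgroup centralises `s`. -/
lemma normalizer_T_le : normalizer ((tSub ty).map E.hom : Set G) ≤ centralizer ({s} : Set G) := by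
  intro n hn
  set U := (tSub ty).map E.hom
  have hsU : s ∈ U := ⟨Mdl.z, z_mem_tSub ty, E.map_z⟩
  obtain ⟨m, hm, hme⟩ := (mem_normalizer_iff.1 hn s).1 hsU
  have hcen : ∀ t ∈ tSub ty, E.hom t * E.hom m = E.hom m * E.hom t := by
    intro t ht
    have h1 : n⁻¹ * E.hom t * n ∈ U := (mem_normalizer_iff.1 hn _).2 (by
      rw [show n * (n⁻¹ * E.hom t * n) * n⁻¹ = E.hom t by group]; exact mem_map_of_mem _ ht)
    obtain ⟨k, -, hk⟩ := h1
    have := E.comm k
    rw [hk] at this
    rw [hme]
    calc E.hom t * (n * s * n⁻¹) = n * (n⁻¹ * E.hom t * n * s) * n⁻¹ := by group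
      _ = n * (s * (n⁻¹ * E.hom t * n)) * n⁻¹ := by rw [this]
      _ = n * s * n⁻¹ * E.hom t := by group
  rcases tSub_center hm (fun t ht => E.comm_iff.1 (hcen t ht)) with e | e
  · rw [e, map_one] at hme
    exact absurd (conj_eq_one_iff.1 hme.symm) (two_iff.1 E.order_two).2
  · rw [e, E.map_z] at hme
    exact mem_centralizer_singleton_iff.2 (mul_inv_eq_iff_eq_mul.1 hme.symm)

/-- The image of the Sylow subgroup is a Sylow subgroup of the group. -/
lemma exists_sylow_T : ∃ P : Sylow 2 G, (P : Subgroup G) = (tSub ty).map E.hom := by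
  haveI : Fact (Nat.Prime 2) := ⟨Nat.prime_two⟩
  have hc : Nat.card ((tSub ty).map E.hom) = 2 ^ 6 := by
    rw [card_map_of_injective E.inj, card_tSub]; norm_num
  obtain ⟨P, hP⟩ := (IsPGroup.of_card hc).exists_le_sylow
  refine ⟨P, by_contra fun hne => ?_⟩
  obtain ⟨n, hnP, hnT, hn⟩ := PGroups.SmallExtraspecial.exists_normalizing P.isPGroup' hP (Ne.symm hne)
  set R := (P : Subgroup G) ⊓ centralizer ({s} : Set G) with hR
  have hTR : (tSub ty).map E.hom ≤ R := le_inf hP fun y hy => by
    obtain ⟨k, -, rfl⟩ := hy
    exact mem_centralizer_singleton_iff.2 (E.comm k)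
  obtain ⟨j, hj⟩ := (P.isPGroup'.to_le inf_le_left : IsPGroup 2 R).exists_card_eq
  have hd : Nat.card R ∣ 192 := E.card_cent ▸ card_dvd_of_le inf_le_right
  have hle : Nat.card R ≤ 64 := by
    rw [hj] at hd ⊢
    have : 2 ^ j ∣ 64 := (Nat.Coprime.dvd_of_dvd_mul_right (k := 2 ^ j) (n := 3) (m := 64)
      (Nat.Coprime.pow_left _ (by norm_num)) (by simpa using hd))
    exact Nat.le_of_dvd (by norm_num) this
  refine hnT ?_
  rw [eq_of_le_of_card_ge hTR (by rw [hc]; exact hle)]
  exact ⟨hnP, normalizer_T_le E hn⟩

end Cfsg.Agent.H87.S3344
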