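import Cfsg.Agent.H87.S3344.Simple

/-!
Simplicity in the type of `M₁₂`.
-/

set_option autoImplicit false

namespace Cfsg.Agent.H87.S3344

open Subgroup PGroups.SmallExtraspecial

variable {G : Type*} [Group G] [Finite G] {s : G} (E : Mdl.Emb false false s)
  {g₀ : G} {a₀ : Mdl false false} (ha : g₀ * s * g₀⁻¹ = E.hom a₀) (haz : a₀ ≠ Mdl.z) (ha32 : a₀.val < 32)
include ha haz ha32

lemma a₀_bit : mV.testBit a₀.val = true := by
  obtain ⟨-, ⟨V, hV, hb⟩, -⟩ := E.conj_mask ha haz ha32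
  rw [List.mem_singleton.1 hV] at hb
  exact hb

lemma a₀_ne_one : a₀ ≠ 1 := fun e => by
  rw [e, map_one] at ha
  exact (two_iff.1 E.order_two).2 (conj_eq_one_iff.1 ha)

/-- Every nontrivial element of the subgroup is a conjugate of `s`. -/
lemma v_fused {v : Mdl false false} (hv : mV.testBit v.val = true) (hv1 : v ≠ 1) :
    ∃ k : G, k * s * k⁻¹ = E.hom v := by
  by_cases hvz : v = Mdl.z
  · exact ⟨1, by rw [hvz, E.map_z]; group⟩
  obtain ⟨l, hl⟩ := conj_of_mask mV_mem (a₀_bit E ha haz ha32) hv (a₀_ne_one E ha haz ha32) haz hv1 hvz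
  refine ⟨E.hom l * g₀, ?_⟩
  rw [← hl, map_mul, map_mul, map_inv, ← ha]
  group

/-- A normal subgroup of odd order is trivial. -/
lemma odd_normal (N : Subgroup G) [hN : N.Normal] (hodd : ¬ 2 ∣ Nat.card N) : N = ⊥ := by
  have hfix : ∀ n ∈ N, s * n = n * s → n = 1 := by
    intro n hn hns
    obtain ⟨m, rfl⟩ := E.mem_iff.1 hns.symm
    have hdN : orderOf m ∣ Nat.card N := by
      rw [← orderOf_injective E.hom E.inj m, ← orderOf_mk _ hn]; exact orderOf_dvd_natCard _
    have hd3 : orderOf m ∣ 3 := by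
      have h1 : orderOf m ∣ 3 * 64 := by
        have := orderOf_dvd_natCard m
        rwa [Mdl.card] at this
      refine (Nat.Coprime.dvd_of_dvd_mul_right ?_ h1)
      exact Nat.Coprime.pow_right 6 ((Nat.prime_two.coprime_iff_not_dvd.2 fun h => hodd (h.trans hdN)).symm)
    -- the commutator with `a₀` is an element of odd order in `Q`
    have hc : E.hom (m * a₀ * m⁻¹ * a₀⁻¹) ∈ N := by
      rw [map_mul, map_mul, map_mul, map_inv, map_inv,
        show E.hom m * E.hom a₀ * (E.hom m)⁻¹ * (E.hom a₀)⁻¹ =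
          E.hom m * (E.hom a₀ * (E.hom m)⁻¹ * (E.hom a₀)⁻¹) by group]
      exact N.mul_mem hn (hN.conj_mem _ (inv_mem hn) _)
    have hcV : m * a₀ * m⁻¹ * a₀⁻¹ ∈ vSub mV mV_mem :=
      mul_mem (((mask_facts mV_mem).2.2.2 _ (a₀_bit E ha haz ha32)).2.2 m).1 (inv_mem (a₀_bit E ha haz ha32))
    have hc2 := ((mask_facts mV_mem).2.2.2 _ hcV).2.1
    have hc1 : m * a₀ * m⁻¹ * a₀⁻¹ = 1 := by
      by_contra hne
      have h2 : orderOf (m * a₀ * m⁻¹ * a₀⁻¹) = 2 := two_iff.2 ⟨hc2, hne⟩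
      refine hodd ?_
      rw [← h2, ← orderOf_injective E.hom E.inj, ← orderOf_mk _ hc]
      exact orderOf_dvd_natCard _
    have hcomm : m * a₀ = a₀ * m := mul_inv_eq_iff_eq_mul.1 (mul_inv_eq_one.1 hc1)
    by_contra hn1
    have hm3 : m * m * m = 1 := by
      rw [mul_assoc, ← pow_three]; exact orderOf_dvd_iff_pow_eq_one.1 hd3
    rcases (((mask_facts mV_mem).2.2.2 _ (a₀_bit E ha haz ha32)).2.2 m).2.2 hm3
      (fun e => hn1 (by rw [e, map_one])) hcomm with e | e
    · exact a₀_ne_one E ha haz ha32 e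
    · exact haz e
  have hfixv : ∀ v : Mdl false false, mV.testBit v.val = true → v ≠ 1 →
      ∀ n ∈ N, E.hom v * n = n * E.hom v → n = 1 := by
    intro v hv hv1 n hn hvn
    obtain ⟨k, hk⟩ := v_fused E ha haz ha32 hv hv1
    have h1 : k⁻¹ * n * k = 1 := hfix _ (by simpa using hN.conj_mem n hn k⁻¹) (by
      rw [← hk] at hvn
      calc s * (k⁻¹ * n * k) = k⁻¹ * (k * s * k⁻¹ * n) * k := by group
        _ = k⁻¹ * (n * (k * s * k⁻¹)) * k := by rw [hvn]
        _ = k⁻¹ * n * k * s := by group)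
    calc n = k * (k⁻¹ * n * k) * k⁻¹ := by group
      _ = 1 := by rw [h1]; group
  have hss := (two_iff.1 E.order_two).1
  have haa := ((mask_facts mV_mem).2.2.2 _ (a₀_bit E ha haz ha32)).2.1
  refine eq_bot_of_four (y₁ := s) (y₂ := E.hom a₀) hss (by rw [← map_mul, haa, map_one])
    (fun n hn => hN.conj_mem n hn s) (fun n hn => hN.conj_mem n hn _) hfix
    (hfixv a₀ (a₀_bit E ha haz ha32) (a₀_ne_one E ha haz ha32)) ?_
  intro n hn h
  refine hfixv (Mdl.z * a₀) ((vSub mV mV_mem).mul_mem (z_bit mV_mem) (a₀_bit E ha haz ha32)) (fun e => haz ?_)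
    n hn (by rwa [map_mul, E.map_z])
  calc a₀ = Mdl.z * (Mdl.z * a₀) := by
        rw [← mul_assoc, ((mask_facts mV_mem).2.2.2 _ (z_bit mV_mem)).2.1, one_mul]
    _ = Mdl.z := by rw [e, mul_one]

/-- A nontrivial normal subgroup contains `s`. -/
lemma s_mem_normal (N : Subgroup G) [hN : N.Normal] (hne : N ≠ ⊥) : s ∈ N := by
  haveI : Fact (Nat.Prime 2) := ⟨Nat.prime_two⟩
  have h2 : 2 ∣ Nat.card N := by_contra fun h => hne (odd_normal E ha haz ha32 N h)
  obtain ⟨w, hw⟩ := exists_prime_orderOf_dvd_card' (G := N) 2 h2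
  obtain ⟨P, hP⟩ := exists_sylow_T E
  obtain ⟨R, hR⟩ := (IsPGroup.of_card (n := 1) (by
    rw [Nat.card_zpowers, orderOf_coe, hw, pow_one] : Nat.card (zpowers (w : G)) = 2 ^ 1)).exists_le_sylow
  obtain ⟨k, hk⟩ := MulAction.exists_smul_eq G R P
  have hwT : k * (w : G) * k⁻¹ ∈ ((tSub false).map E.hom) := by
    rw [← hP, ← hk, Sylow.smul_def]
    exact (Subgroup.smul_mem_pointwise_smul_iff (a := MulAut.conj k)).2 (hR (mem_zpowers _))
  obtain ⟨t, ht, hte⟩ := hwT
  set D := (N.comap E.hom).subgroupOf (tSub false) with hD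
  haveI : (N.comap E.hom).Normal := hN.comap _
  have hDne : D ≠ ⊥ := fun hb => by
    have h1 : (⟨t, ht⟩ : tSub false) ∈ D := by
      rw [hD, mem_subgroupOf, mem_comap, hte]; exact hN.conj_mem _ w.2 k
    rw [hb, mem_bot] at h1
    have e : t = 1 := congrArg Subtype.val h1
    rw [e, map_one] at hte
    have : (w : G) = 1 := conj_eq_one_iff.1 hte.symm
    rw [← orderOf_coe, this, orderOf_one] at hw
    omega
  have hp : IsPGroup 2 (tSub false) := IsPGroup.of_card (n := 6) (by rw [card_tSub]; norm_num)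
  obtain ⟨c, hc, hc1⟩ := (bot_or_exists_ne_one (D ⊓ center (tSub false))).resolve_left
    (PGroups.inf_center_ne_bot hp D hDne)
  rcases tSub_center c.2 (fun r hr => congrArg Subtype.val (mem_center_iff.1 hc.2 ⟨r, hr⟩)) with e | e
  · exact absurd (Subtype.ext e) hc1
  · have h' : E.hom ((c : Mdl false false)) ∈ N := hc.1
    rwa [e, E.map_z] at h'

variable (hnorm : ∀ h ∈ normalizer (vG E mV mV_mem : Set G), h * s * h⁻¹ = s)
include hnorm

lemma a₀_ne_s : E.hom a₀ ≠ s := fun e => haz (E.inj (e.trans E.map_z.symm))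

/-- A normal subgroup containing `s` meets the centraliser outside the four-group. -/
lemma normal_big (N : Subgroup G) [hN : N.Normal] (hs : s ∈ N) :
    ∃ m : Mdl false false, E.hom m ∈ N ∧ mV.testBit m.val = false := by
  by_contra hall
  push Not at hall
  have hVN : vG E mV mV_mem ≤ N := by
    rintro _ ⟨v, hv, rfl⟩
    by_cases hv1 : v = 1
    · rw [hv1, map_one]; exact one_mem _
    obtain ⟨k, hk⟩ := v_fused E ha haz ha32 hv hv1
    rw [← hk]; exact hN.conj_mem s hs k
  have hmem : ∀ x ∈ vG E mV mV_mem, g₀ * x * g₀⁻¹ ∈ vG E mV mV_mem := by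
    have hle : vG E mV mV_mem ≤ (vG E mV mV_mem).map (MulAut.conj g₀).toMonoidHom := by
      rintro _ ⟨v, hv, rfl⟩
      have hvN : E.hom v ∈ N := hVN (mem_map_of_mem _ hv)
      have hva : v * a₀ = a₀ * v := by
        have h1 := ((mask_facts mV_mem).2.2.2 _ ((vSub mV mV_mem).mul_mem hv (a₀_bit E ha haz ha32))).2.1
        have h2 := ((mask_facts mV_mem).2.2.2 _ hv).2.1
        have h3 := ((mask_facts mV_mem).2.2.2 _ (a₀_bit E ha haz ha32)).2.1
        calc v * a₀ = (v * a₀)⁻¹ := (inv_eq_of_mul_eq_one_right h1).symm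
          _ = a₀ * v := by
            rw [_root_.mul_inv_rev, inv_eq_of_mul_eq_one_right h2, inv_eq_of_mul_eq_one_right h3]
      obtain ⟨m, hm⟩ := (E.mem_iff (g := g₀⁻¹ * E.hom v * g₀)).1 (by
        calc g₀⁻¹ * E.hom v * g₀ * s = g₀⁻¹ * (E.hom v * (g₀ * s * g₀⁻¹)) * g₀ := by group
          _ = g₀⁻¹ * (g₀ * s * g₀⁻¹ * E.hom v) * g₀ := by rw [ha, E.comm_iff.2 hva]
          _ = s * (g₀⁻¹ * E.hom v * g₀) := by group)
      have hmN : E.hom m ∈ N := by rw [hm]; simpa using hN.conj_mem _ hvN g₀⁻¹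
      refine ⟨E.hom m, mem_map_of_mem _ (Bool.eq_true_of_not_eq_false (hall m hmN)), ?_⟩
      show g₀ * E.hom m * g₀⁻¹ = E.hom v
      rw [hm]; group
    intro x hx
    rw [eq_of_le_of_card_ge hle (by rw [card_map_of_injective (MulEquiv.injective _)])]
    exact ⟨x, hx, rfl⟩
  exact a₀_ne_s E ha haz ha32 hnorm (ha ▸ hnorm g₀ (mem_normalizer_of_conj_mem hmem))

/-- A normal subgroup containing `s` is everything. -/
lemma normal_eq_top (N : Subgroup G) [hN : N.Normal] (hs : s ∈ N) : N = ⊤ := by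
  haveI : Fact (Nat.Prime 2) := ⟨Nat.prime_two⟩
  obtain ⟨m, hmN, hmV⟩ := normal_big E ha haz ha32 hnorm N hs
  set H := N.comap E.hom with hH
  haveI hHn : H.Normal := hN.comap _
  have hz : Mdl.z ∈ H := by rw [hH, mem_comap, E.map_z]; exact hs
  have hVH : ∀ v : Mdl false false, mV.testBit v.val = true → v ∈ H := fun v hv => by
    by_cases hv1 : v = 1
    · rw [hv1]; exact one_mem _
    obtain ⟨k, hk⟩ := v_fused E ha haz ha32 hv hv1
    show E.hom v ∈ N
    rw [← hk]; exact hN.conj_mem s hs k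
  have hg := gensB_true
  simp only [gensB, Bool.and_eq_true, List.all_eq_true, List.mem_range, Bool.or_eq_true, beq_iff_eq,
    List.any_eq_true] at hg
  obtain ⟨⟨⟨⟨⟨⟨hg1, hg2⟩, hg3⟩, hg4⟩, hg5⟩, hg6⟩, hg7⟩ := hg
  obtain ⟨hx1, hx2, hx3⟩ := extra_check
  simp only [List.all_eq_true, List.mem_range, Bool.or_eq_true, beq_iff_eq, List.any_eq_true,
    Bool.and_eq_true, Bool.not_eq_true'] at hx1 hx2 hx3
  have hcom : ∀ (y g : Mdl false false), y ∈ H → y * g * y⁻¹ * g⁻¹ ∈ H := fun y g hy => by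
    rw [show y * g * y⁻¹ * g⁻¹ = y * (g * y⁻¹ * g⁻¹) by group]
    exact mul_mem hy (hHn.conj_mem _ (inv_mem hy) g)
  -- the subgroup `Q`
  have hgen : ∀ t ∈ [1, 4], (Mdl.mk' t : Mdl false false) ∈ H := by
    intro t ht
    have ht' : t < 192 := by simp at ht; omega
    by_cases hm32 : m.val < 32
    · rcases hx1 m.val hm32 with h | h
      · rw [hmV] at h; exact absurd h (by simp)
      obtain ⟨g, hg, hgt⟩ := h t ht
      have e : (Mdl.mk' t : Mdl false false) =
          (Mdl.mk' g * m * (Mdl.mk' g)⁻¹) * ((Mdl.mk' g * m * (Mdl.mk' g)⁻¹)⁻¹ * Mdl.mk' t) := by group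
      rw [e]
      refine mul_mem (hHn.conj_mem _ hmN _) (hVH _ ?_)
      rwa [Mdl.mul_val, Mdl.inv_val, Mdl.conj_val, Mdl.val_mk' hg, Mdl.val_mk' ht']
    · have key : ∃ y : Mdl false false, y ∈ H ∧ (y.val / 32 = 1 ∨ y.val / 32 = 2) := by
        by_cases hm96 : m.val < 96
        · exact ⟨m, hmN, by omega⟩
        · refine ⟨m * Mdl.mk' 32 * m⁻¹ * (Mdl.mk' 32)⁻¹, hcom m _ hmN, ?_⟩
          rw [Mdl.comm_val, Mdl.val_mk' (by norm_num)]
          exact (hg2 m.val m.val_lt).resolve_left (fun h => hm96 (by rwa [Nat.blt_eq] at h))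
      obtain ⟨y, hy, hp⟩ := key
      obtain ⟨q, hq, he⟩ := ((hg1 y.val y.val_lt).resolve_left fun h => by
        rcases h with h | h
        · omega
        · simp only [Bool.not_eq_true', beq_eq_false_iff_ne] at h
          omega) t ht
      have hqlt : q < 192 := by omega
      rcases he with he | he
      · have e : (Mdl.mk' t : Mdl false false) = y * Mdl.mk' q * y⁻¹ * (Mdl.mk' q)⁻¹ :=
          Mdl.ext' (by rw [Mdl.val_mk' ht', Mdl.comm_val, Mdl.val_mk' hqlt, he])
        rw [e]; exact hcom y _ hy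
      · have e : (Mdl.mk' t : Mdl false false) * Mdl.z = y * Mdl.mk' q * y⁻¹ * (Mdl.mk' q)⁻¹ :=
          Mdl.ext' (by rw [Mdl.mul_val, Mdl.val_mk' ht', Mdl.z_val, Mdl.comm_val, Mdl.val_mk' hqlt, he])
        have h1 : (Mdl.mk' t : Mdl false false) * Mdl.z ∈ H := e ▸ hcom y _ hy
        rw [show (Mdl.mk' t : Mdl false false) = Mdl.mk' t * Mdl.z * (Mdl.z)⁻¹ by group]
        exact mul_mem h1 (inv_mem hz)
  have hv : ∀ {i j : ℕ}, i < 192 → j < 192 → (Mdl.mk' (nmul false false i j) : Mdl false false) =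
      Mdl.mk' i * Mdl.mk' j := fun hi hj => Mdl.ext' (by
    rw [Mdl.mul_val, Mdl.val_mk' hi, Mdl.val_mk' hj, Mdl.val_mk' (nmul_lt false false hi hj)])
  have hQ : ∀ q < 32, (Mdl.mk' q : Mdl false false) ∈ H := by
    have hlt : ∀ {i : ℕ}, i < 32 → i < 192 := fun h => by omega
    let A : ℕ → Prop := fun q => q < 32 ∧ (Mdl.mk' q : Mdl false false) ∈ H
    have hmul : ∀ i j, A i → A j → A (qmul false i j) := fun i j hi hj => by
      have h32 := qlt false hi.1 hj.1
      refine ⟨h32, ?_⟩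
      have e : nmul false false i j = qmul false i j := by
        unfold nmul
        rw [Nat.mod_eq_of_lt hi.1, Nat.mod_eq_of_lt hj.1, Nat.div_eq_of_lt hi.1, Nat.div_eq_of_lt hj.1,
          (a_facts false (by norm_num : 0 < 6) hj.1).2.2.2.1, (p_facts false (by norm_num : 0 < 6)).2.2.1,
          (p_facts false (by norm_num : 0 < 6)).1, (q_facts false h32).1, mul_zero, add_zero]
      rw [← e, hv (hlt hi.1) (hlt hj.1)]
      exact mul_mem hi.2 hj.2
    have conj32 : ∀ t, t < 192 → ∀ r, r < 192 → nmul false false (nmul false false 32 t) (ninv false false 32) = r →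
        (Mdl.mk' t : Mdl false false) ∈ H → (Mdl.mk' r : Mdl false false) ∈ H := fun t ht r hr e h => by
      rw [show (Mdl.mk' r : Mdl false false) = Mdl.mk' 32 * Mdl.mk' t * (Mdl.mk' 32)⁻¹ from Mdl.ext' (by
        rw [Mdl.conj_val, Mdl.val_mk' hr, Mdl.val_mk' (by norm_num : 32 < 192), Mdl.val_mk' ht, e])]
      exact hHn.conj_mem _ h _
    have hgens : ∀ r ∈ [0, 1, 2, 4, 8, 16], A r := by
      intro r hr
      refine ⟨by simp at hr; omega, ?_⟩
      simp only [List.mem_cons, List.not_mem_nil, or_false] at hr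
      rcases hr with rfl | rfl | rfl | rfl | rfl | rfl
      · exact one_mem H
      · exact hgen 1 (by simp)
      · exact conj32 1 (by norm_num) 2 (by norm_num) hg5 (hgen 1 (by simp))
      · exact hgen 4 (by simp)
      · exact conj32 4 (by norm_num) 8 (by norm_num) hg6 (hgen 4 (by simp))
      · exact hz
    have hbit : ∀ (k n : ℕ), k ≤ 4 → A (n &&& 2 ^ k) := by
      intro k n hk
      rw [Nat.and_two_pow]
      rcases Bool.eq_false_or_eq_true (n.testBit k) with h | h <;> rw [h]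
      · exact hgens _ (by interval_cases k <;> simp)
      · exact hgens _ (by simp)
    intro q hq
    have hlast : A (q &&& 16 ^^^
        (qmul false (qmul false (qmul false (q &&& 1) (q &&& 2)) (q &&& 4)) (q &&& 8) &&& 16)) := by
      rw [show (16 : ℕ) = 2 ^ 4 from rfl, ← Nat.and_xor_distrib_right]
      exact hbit 4 _ le_rfl
    have hA : A (qform false q) := hmul _ _ (hmul _ _ (hmul _ _ (hmul _ _ (hbit 0 q (by omega))
      (hbit 1 q (by omega))) (hbit 2 q (by omega))) (hbit 3 q (by omega))) hlast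
    rw [(q_facts false hq).2.2.1] at hA
    exact hA.2
  have hsplit : ∀ n : Mdl false false, Mdl.mk' (n.val % 32) * Mdl.mk' (32 * (n.val / 32)) = n := fun n => by
    have := n.val_lt
    rw [← hv (by omega) (by omega), hg3 n.val n.val_lt, Mdl.mk'_val]
  -- an element outside `Q` of 2-power order lies in `N`
  by_cases hout : ∃ y ∈ H, 96 ≤ y.val
  · obtain ⟨y, hy, hy96⟩ := hout
    have hc := hcom y (Mdl.mk' 32) hy
    have hcp : (y * Mdl.mk' 32 * y⁻¹ * (Mdl.mk' 32)⁻¹).val / 32 = 1 ∨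
        (y * Mdl.mk' 32 * y⁻¹ * (Mdl.mk' 32)⁻¹).val / 32 = 2 := by
      rw [Mdl.comm_val, Mdl.val_mk' (by norm_num)]
      exact (hg2 y.val y.val_lt).resolve_left (fun h => by rw [Nat.blt_eq] at h; omega)
    have hP : ∀ n : Mdl false false, n ∈ H → (Mdl.mk' (32 * (n.val / 32)) : Mdl false false) ∈ H := fun n hn => by
      have := hsplit n
      rw [show (Mdl.mk' (32 * (n.val / 32)) : Mdl false false) = (Mdl.mk' (n.val % 32))⁻¹ * n from
        eq_inv_mul_iff_mul_eq.2 this]
      exact mul_mem (inv_mem (hQ _ (Nat.mod_lt _ (by norm_num)))) hn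
    have h64 : (Mdl.mk' 64 : Mdl false false) = Mdl.mk' 32 * Mdl.mk' 32 := by
      rw [← hv (by norm_num) (by norm_num), hg7]
    have h32 : (Mdl.mk' 32 : Mdl false false) ∈ H := by
      rcases hcp with e | e <;> have h := hP _ hc <;> rw [e] at h
      · exact h
      · have h3 : (Mdl.mk' 32 : Mdl false false) = Mdl.mk' 64 * Mdl.mk' 64 := by
          rw [← hv (by norm_num) (by norm_num)]
          exact congrArg Mdl.mk' (by decide +kernel)
        rw [h3]; exact mul_mem h h
    have hT : ∀ n : Mdl false false, n ∈ tSub false → n ∈ H := by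
      intro n hn
      rw [← hsplit n]
      refine mul_mem (hQ _ (Nat.mod_lt _ (by norm_num))) ?_
      have hn' : tB n.val = true := hn
      simp only [tB, Bool.or_eq_true, beq_iff_eq] at hn'
      rcases hn' with e | e <;> rw [e]
      · exact hQ 0 (by norm_num)
      · have hpy := hP y hy
        obtain ⟨k, hk, hk3⟩ : ∃ k < 3, y.val / 32 = 3 + k := ⟨y.val / 32 - 3, by have := y.val_lt; omega, by omega⟩
        rw [hk3] at hpy
        have hk' : (Mdl.mk' 96 : Mdl false false) = (Mdl.mk' 32) ^ ((3 - k) % 3) * Mdl.mk' (32 * (3 + k)) := by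
          interval_cases k
          · rw [pow_zero, one_mul]
          · rw [pow_two, ← hv (by norm_num) (by norm_num), ← hv (nmul_lt _ _ (by norm_num) (by norm_num)) (by norm_num)]
            exact congrArg Mdl.mk' (by decide +kernel)
          · rw [pow_one, ← hv (by norm_num) (by norm_num)]
            exact congrArg Mdl.mk' (by decide +kernel)
        rw [show 32 * 3 = 96 from rfl, hk']
        exact mul_mem (pow_mem h32 _) hpy
    obtain ⟨P, hPT⟩ := exists_sylow_T E
    have hPN : (P : Subgroup G) ≤ N := by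
      rw [hPT]
      rintro _ ⟨n, hn, rfl⟩
      exact hT n hn
    have hCN : centralizer ({s} : Set G) ≤ N := by
      intro g hg
      obtain ⟨n, rfl⟩ := E.mem_iff.1 (mem_centralizer_singleton_iff.1 hg)
      show n ∈ H
      rw [← hsplit n]
      refine mul_mem (hQ _ (Nat.mod_lt _ (by norm_num))) ?_
      have := n.val_lt
      have h96 : (Mdl.mk' 96 : Mdl false false) ∈ H := hT _ (show tB (Mdl.mk' 96 : Mdl false false).val = true by
        rw [Mdl.val_mk' (by norm_num)]; rfl)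
      obtain ⟨p, hp, hpe⟩ : ∃ p < 6, n.val / 32 = p := ⟨_, by omega, rfl⟩
      rw [hpe]
      interval_cases p
      · exact hQ 0 (by norm_num)
      · exact h32
      · show (Mdl.mk' 64 : Mdl false false) ∈ H; rw [h64]; exact mul_mem h32 h32
      · exact h96
      · have e : (Mdl.mk' (32 * 4) : Mdl false false) = Mdl.mk' 32 * Mdl.mk' 96 := by
          rw [← hv (by norm_num) (by norm_num)]
          exact congrArg Mdl.mk' (by decide +kernel)
        rw [e]; exact mul_mem h32 h96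
      · have e : (Mdl.mk' (32 * 5) : Mdl false false) = Mdl.mk' 32 * Mdl.mk' 32 * Mdl.mk' 96 := by
          rw [← hv (by norm_num) (by norm_num), ← hv (nmul_lt _ _ (by norm_num) (by norm_num)) (by norm_num)]
          exact congrArg Mdl.mk' (by decide +kernel)
        rw [e]; exact mul_mem (mul_mem h32 h32) h96
    rw [← Sylow.normalizer_sup_eq_top' P hPN, eq_comm, sup_eq_right]
    refine le_trans ?_ hCN
    show normalizer ((P : Subgroup G) : Set G) ≤ _
    rw [hPT]
    exact normalizer_T_le E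
  · -- otherwise the elements of 2-power order of the intersection lie in `Q`
    exfalso
    push Not at hout
    obtain ⟨p, hp, q, hq, ⟨hpa, hqa⟩, hpq⟩ : ∃ p < 32, ∃ q < 32,
        (cmB false false p a₀.val = true ∧ cmB false false q a₀.val = true) ∧
          comB false false p q = 16 := by
      have h0 : ¬ a₀.val = 0 := fun e => a₀_ne_one E ha haz ha32 (Mdl.ext' (e.trans Mdl.one_val.symm))
      have h16 : ¬ a₀.val = 16 := fun e => haz (Mdl.ext' (e.trans Mdl.z_val.symm))
      have h := hx2 a₀.val ha32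
      simp only [a₀_bit E ha haz ha32, Bool.true_eq_false, h0, h16, false_or] at h
      exact h
    obtain ⟨b, hb, -, -⟩ := E.exists_pair ha haz
    obtain ⟨ha', hb'⟩ := E.inv_pair hb ha
    have hmove : ∀ r < 32, cmB false false r a₀.val = true →
        ∃ k : Mdl false false, k.val < 32 ∧ E.hom k = g₀⁻¹ * E.hom (Mdl.mk' r) * g₀ := by
      intro r hr hra
      have hr' : r < 192 := by omega
      obtain ⟨k, -, hk⟩ := E.moved ha' hb' (n := Mdl.mk' r) (Mdl.cm_iff.1 (by rwa [Mdl.val_mk' hr']))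
      rw [inv_inv] at hk
      refine ⟨k, ?_, hk⟩
      have hkH : k ∈ H := by
        show E.hom k ∈ N
        rw [hk]
        simpa using hN.conj_mem _ (hQ r hr : (Mdl.mk' r : Mdl false false) ∈ H) g₀⁻¹
      have h96 := hout k hkH
      have h4 : (Mdl.mk' r : Mdl false false) * Mdl.mk' r * (Mdl.mk' r * Mdl.mk' r) = 1 :=
        Mdl.ext' (by rw [Mdl.mul_val, Mdl.mul_val, Mdl.val_mk' hr', Mdl.one_val]; exact (hx3 r hr).1)
      have hk4 : k * k * (k * k) = 1 := E.inj (by
        rw [map_mul, map_mul, hk, map_one, show g₀⁻¹ * E.hom (Mdl.mk' r) * g₀ * (g₀⁻¹ * E.hom (Mdl.mk' r) * g₀) *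
          (g₀⁻¹ * E.hom (Mdl.mk' r) * g₀ * (g₀⁻¹ * E.hom (Mdl.mk' r) * g₀)) =
          g₀⁻¹ * (E.hom (Mdl.mk' r) * E.hom (Mdl.mk' r) * (E.hom (Mdl.mk' r) * E.hom (Mdl.mk' r))) * g₀ by group,
          ← map_mul, ← map_mul, h4, map_one]
        group)
      by_contra hk32
      rcases hg4 k.val k.val_lt with (h | h) | h
      · rw [Nat.blt_eq] at h; exact hk32 h
      · rw [Nat.ble_eq] at h; omega
      · have hk8 : (k * k * (k * k) * (k * k * (k * k))).val = 0 := by rw [hk4, mul_one, Mdl.one_val]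
        simp only [Mdl.mul_val] at hk8
        simp [hk8] at h
    obtain ⟨i, hi, hie⟩ := hmove p hp hpa
    obtain ⟨j, hj, hje⟩ := hmove q hq hqa
    have hc : E.hom (i * j * i⁻¹ * j⁻¹) = g₀⁻¹ * s * g₀ := by
      have e : (Mdl.mk' p * Mdl.mk' q * (Mdl.mk' p)⁻¹ * (Mdl.mk' q)⁻¹ : Mdl false false) = Mdl.z :=
        Mdl.ext' (by rw [Mdl.comm_val, Mdl.val_mk' (by omega), Mdl.val_mk' (by omega), hpq, Mdl.z_val])
      calc E.hom (i * j * i⁻¹ * j⁻¹) = g₀⁻¹ * E.hom Mdl.z * g₀ := by
            rw [← e]; simp only [map_mul, map_inv, hie, hje]; group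
        _ = g₀⁻¹ * s * g₀ := by rw [E.map_z]
    rcases (hx3 i.val hi).2 j.val hj with h | h
    · rw [show i * j * i⁻¹ * j⁻¹ = 1 from Mdl.ext' (by rw [Mdl.comm_val, h, Mdl.one_val]), map_one] at hc
      apply (two_iff.1 E.order_two).2
      calc s = g₀ * (g₀⁻¹ * s * g₀) * g₀⁻¹ := by group
        _ = 1 := by rw [← hc]; group
    · rw [show i * j * i⁻¹ * j⁻¹ = Mdl.z from Mdl.ext' (by rw [Mdl.comm_val, h, Mdl.z_val]), E.map_z] at hc
      refine a₀_ne_s E ha haz ha32 hnorm ?_
      rw [← ha]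
      calc g₀ * s * g₀⁻¹ = g₀ * (g₀⁻¹ * s * g₀) * g₀⁻¹ := by rw [← hc]
        _ = s := by group

/-- The group is simple and not commutative. -/
theorem simple_main : IsSimpleGroup G ∧ ¬ IsMulCommutative G := by
  obtain ⟨-, hs1⟩ := two_iff.1 E.order_two
  haveI : Nontrivial G := ⟨⟨s, 1, hs1⟩⟩
  refine ⟨⟨fun N hN => ?_⟩, fun hc => a₀_ne_s E ha haz ha32 hnorm ?_⟩
  · by_cases hne : N = ⊥
    · exact Or.inl hne
    · haveI := hN
      exact Or.inr (normal_eq_top E ha haz ha32 hnorm N (s_mem_normal E ha haz ha32 N hne))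
  · rw [← ha, hc.is_comm.comm g₀ s, mul_inv_cancel_right]

end Cfsg.Agent.H87.S3344
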