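import Cfsg.Agent.H87.S3344.Facts

/-!
Checks on the model of type `A₈` for the configuration with two fused subgroups of order 8.
-/

set_option autoImplicit false

namespace Cfsg.Agent.H87.S3344

/-- The three masks, by index. -/
def mk3 (i : ℕ) : ℕ := bif i == 0 then 983055 else bif i == 1 then 286331153 else 2216789025

/-- An involution in the `i`-th mask and in the subgroup of order 16. -/
def x3 (i : ℕ) : ℕ := bif i == 0 then 1 else bif i == 1 then 4 else 5

/-- Conjugation of labels. -/
def cjB (g v : ℕ) : ℕ := nmul true false (nmul true false g v) (ninv true false g)

/-- The facts about the subgroup of order 16. -/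
def eB2 : Bool :=
  ((List.range 192).all fun g => eMask.testBit g ||
    (List.range 192).any fun e => eMask.testBit e && !cmB true false g e) &&
  ((List.range 192).all fun g => tB g ||
    (List.range 192).any fun e => eMask.testBit e && !eMask.testBit (cjB g e)) &&
  ((List.range 192).all fun t => !tB t || (eMask.testBit (nmul true false t t) &&
    (eMask.testBit t || (List.range 192).countP (fun e => eMask.testBit e && cmB true false e t) == 4))) &&
  ((List.range 192).all fun e => !eMask.testBit e || (mk3 0).testBit e || (mk3 1).testBit e ||
    (mk3 2).testBit e || (List.range 192).any fun t => tB t && !(cjB t e == e) &&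
      (List.range 192).any fun t' => tB t' && !(cjB t' e == e) && !(cjB t e == cjB t' e))

/-- The facts about the centraliser of the `i`-th chosen involution. -/
def xB (i : ℕ) : Bool :=
  (mk3 i).testBit (x3 i) && eMask.testBit (x3 i) && cc true false (x3 i) == 32 &&
  ((List.range 192).all fun z => !cmB true false z (x3 i) || z == 0 || z == 16 || z == x3 i ||
    z == nmul true false (x3 i) 16 ||
      (List.range 192).any fun r => cmB true false r (x3 i) && !cmB true false r z) &&
  ((List.range 192).all fun r => !(cmB true false r (x3 i) && nmul true false r r == 0) ||
    eMask.testBit r || (mk3 i).testBit r) &&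
  ((List.range 192).all fun u => !(mk3 i).testBit u || eMask.testBit u || (List.range 192).all fun r =>
    !(cmB true false r (x3 i) && cmB true false r u) || (mk3 i).testBit r)

/-- The facts about elements of order three. -/
def threeB : Bool :=
  (List.range 192).all fun y => !(nmul true false (nmul true false y y) y == 0) || y == 0 ||
    (cc true false y == 6 && (List.range 192).all fun r =>
      !ivB true false r || !cmB true false y r)

lemma eB2_true : eB2 = true := by decide +kernel

lemma xB_all : (List.range 3).all xB = true := by decide +kernel

lemma threeB_true : threeB = true := by decide +kernel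

lemma mk3_mem : ∀ i < 3, mk3 i ∈ vMasks true ∧ x3 i < 32 ∧ x3 i ≠ 0 ∧ x3 i ≠ 16 ∧
    ∀ j < 3, i ≠ j → mk3 i ≠ mk3 j := by
  decide +kernel

/-- The `s`-class in the centraliser: `s`, the two fused subgroups and one outer class. -/
def sClassB (i : ℕ) (p : ℕ) (m : ℕ) : Bool :=
  m == 16 || (ivB true false m && bif Nat.blt m 32 then !(mk3 i).testBit m
    else (List.range 192).any fun g => cjB g p == m)

/-- The other class. -/
def xClassB (i : ℕ) (p : ℕ) (m : ℕ) : Bool := ivB true false m && !sClassB i p m

/-- Powers of a label. -/
def powB : ℕ → ℕ → ℕ
  | 0, _ => 0
  | k + 1, w => nmul true false (powB k w) w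

/-- Whether the centre lies in the cyclic subgroup of a label. -/
def zInB (w : ℕ) : Bool := (List.range 8).any fun k => powB k w == 16

/-- The count of pairs. -/
def pairCount (i p : ℕ) : ℕ :=
  ((List.range 192).map fun u => if sClassB i p u then
    (List.range 192).countP (fun v => xClassB i p v && zInB (nmul true false u v)) else 0).sum

lemma pairCount_all :
    ((List.range 3).all fun i => [96, 101].all fun p => pairCount i p == 156) = true := by
  decide +kernel

/-- The outer classes: representatives, orders of elements. -/
def outerB : Bool :=
  ((List.range 192).all fun m => !(ivB true false m && !Nat.blt m 32) ||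
    (List.range 192).any fun g => cjB g 96 == m || cjB g 101 == m) &&
  ((List.range 192).all fun g => !(cjB g 96 == 101)) &&
  ((List.range 192).all fun w => [1, 2, 3, 4, 6].any fun k => powB k w == 0) &&
  eMask.testBit 96 && eMask.testBit 101 &&
  ((List.range 192).countP (fun e => eMask.testBit e && (List.range 192).any fun g => cjB g 96 == e) == 4) &&
  ((List.range 192).countP (fun e => eMask.testBit e && (List.range 192).any fun g => cjB g 101 == e) == 4)

lemma outerB_true : outerB = true := by decide +kernel

end Cfsg.Agent.H87.S3344
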