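import Cfsg.Agent.H87.S3344.SwapFacts
import Cfsg.Agent.PGroups.SmallExtraspecial.Orbit

/-!
The two classes inside the centraliser in the swap configuration, and the count of pairs.
-/

set_option autoImplicit false

namespace Cfsg.Agent.H87.S3344

open Subgroup PGroups.SmallExtraspecial

/-- The conjugates of `s` in the subgroup of order 16, given those of the outer representatives. -/
def oB (i : ℕ) (f f' : Bool) (m : ℕ) : Bool :=
  eMask.testBit m && (m == 16 || (ivB true false m && bif Nat.blt m 32 then !(mk3 i).testBit m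
    else (f && (List.range 192).any fun g => cjB g 96 == m) || (f' && (List.range 192).any fun g => cjB g 101 == m)))

lemma oB_count : ((List.range 3).all fun i => [false, true].all fun f => [false, true].all fun f' =>
    (List.range 192).countP (oB i f f') == 5 + (bif f then 4 else 0) + (bif f' then 4 else 0)) = true := by
  decide +kernel

lemma powB_val (k : ℕ) (w : Mdl true false) : powB k w.val = (w ^ k).val := by
  induction k with
  | zero => rw [powB, pow_zero, Mdl.one_val]
  | succ k ih => rw [powB, ih, pow_succ, Mdl.mul_val]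

lemma zInB_iff (w : Mdl true false) : zInB w.val = true ↔ Mdl.z ∈ zpowers w := by
  simp only [zInB, List.any_eq_true, List.mem_range, beq_iff_eq, powB_val]
  constructor
  · rintro ⟨k, -, hk⟩
    exact ⟨(k : ℤ), show w ^ (k : ℤ) = Mdl.z by rw [zpow_natCast]; exact Mdl.ext' (hk.trans Mdl.z_val.symm)⟩
  · intro hz
    rw [← mem_powers_iff_mem_zpowers] at hz
    obtain ⟨n, hn⟩ := hz
    have ho := outerB_true
    simp only [outerB, Bool.and_eq_true, List.all_eq_true, List.mem_range, List.any_eq_true, beq_iff_eq] at ho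
    obtain ⟨d, hd, hdw⟩ := ho.1.1.1.1.2 w.val w.val_lt
    have hd' : w ^ d = 1 := Mdl.ext' (by rw [← powB_val, hdw, Mdl.one_val])
    simp only [List.mem_cons, List.not_mem_nil, or_false] at hd
    have hd0 : 0 < d := by omega
    refine ⟨n % d, lt_of_lt_of_le (Nat.mod_lt _ hd0) (by omega), ?_⟩
    rw [← pow_eq_pow_mod n hd']
    exact (congrArg Mdl.val (show w ^ n = Mdl.z from hn)).trans Mdl.z_val

variable {G : Type*} [Group G] [Finite G] {s : G} {E : Mdl.Emb true false s} {i j k : ℕ}
  (hi : i < 3) (hj : j < 3) (hk : k < 3) (hij : i ≠ j) (hik : i ≠ k) (hjk : j ≠ k)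
  (d : PGroups.SmallExtraspecial.Swap s (xG E i) (vG E (mk3 i) (mk3_mem i hi).1)
    (vG E (mk3 j) (mk3_mem j hj).1) (vG E (mk3 k) (mk3_mem k hk).1) (eG E) (tG E))
include hi hj hk hij hik hjk d

/-- Exactly one outer class consists of conjugates of `s`. -/
theorem exists_outer_class : ∃ p ∈ [96, 101], ∀ n : Mdl true false,
    IsConj s (E.hom n) ↔ sClassB i p n.val = true := by
  classical
  set f := decide (IsConj s (E.hom (Mdl.mk' 96))) with hf
  set f' := decide (IsConj s (E.hom (Mdl.mk' 101))) with hf'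
  have ho := outerB_true
  simp only [outerB, Bool.and_eq_true, List.all_eq_true, List.mem_range, List.any_eq_true, beq_iff_eq,
    Bool.or_eq_true, Bool.not_eq_true', beq_eq_false_iff_ne] at ho
  obtain ⟨⟨⟨⟨⟨⟨hout, hdis⟩, -⟩, -⟩, -⟩, -⟩, -⟩ := ho
  have hi1 := (mk3_mem i hi).1
  have hrep : ∀ (p : ℕ) (g : ℕ) (n : Mdl true false), p < 192 → g < 192 → cjB g p = n.val →
      (IsConj s (E.hom n) ↔ IsConj s (E.hom (Mdl.mk' p))) := by
    intro p g n hp hg h
    have hn : n = Mdl.mk' g * Mdl.mk' p * (Mdl.mk' g)⁻¹ :=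
      Mdl.ext' (by rw [cjB_val, Mdl.val_mk' hg, Mdl.val_mk' hp, h])
    have hc : IsConj (E.hom (Mdl.mk' p)) (E.hom n) :=
      isConj_iff.2 ⟨E.hom (Mdl.mk' g), by rw [hn, map_mul, map_mul, map_inv]⟩
    exact ⟨fun h => h.trans hc.symm, fun h => h.trans hc⟩
  -- the criterion
  have key : ∀ n : Mdl true false, IsConj s (E.hom n) ↔ n.val = 16 ∨ (ivB true false n.val = true ∧
      ((n.val < 32 ∧ (mk3 i).testBit n.val = false) ∨ (¬ n.val < 32 ∧
        ((f = true ∧ ∃ g < 192, cjB g 96 = n.val) ∨ (f' = true ∧ ∃ g < 192, cjB g 101 = n.val))))) := by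
    intro n
    by_cases hz : n = Mdl.z
    · exact ⟨fun _ => Or.inl (by rw [hz, Mdl.z_val]), fun _ => by rw [hz, E.map_z]⟩
    have h16 : ¬ n.val = 16 := fun e => hz (Mdl.ext' (e.trans Mdl.z_val.symm))
    by_cases hiv : ivB true false n.val = true
    swap
    · refine ⟨fun h => ?_, fun h => ?_⟩
      · exfalso
        obtain ⟨g, hg⟩ := isConj_iff.1 h
        obtain ⟨h2, h1⟩ := two_iff.1 (hg ▸ two_conj E.order_two g : orderOf (E.hom n) = 2)
        exact hiv (Mdl.iv_iff.2 ⟨E.inj (by rw [map_mul, map_one, h2]), fun e => h1 (by rw [e, map_one]), hz⟩)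
      · exact absurd h (by simp [h16, hiv])
    simp only [h16, hiv, false_or, true_and]
    obtain ⟨hn2, hn1, -⟩ := Mdl.iv_iff.1 hiv
    by_cases h32 : n.val < 32
    · simp only [h32, true_and, not_true, false_and, or_false]
      have hc := List.all_eq_true.1 classB₂_all n.val (List.mem_range.2 n.val_lt)
      simp only [classB₂, hiv, Bool.not_true, Bool.false_or, (by rwa [Nat.blt_eq] : Nat.blt n.val 32 = true),
        cond_true, Bool.and_eq_true, List.any_eq_true] at hc
      obtain ⟨-, V, hV, hVn⟩ := hc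
      constructor
      · intro h
        refine Bool.eq_false_iff.2 fun hb => d.six_not_conj ((hom_mem_vG E hi1).2 hb)
          (fun e => hn1 (E.inj (e.trans (map_one _).symm))) (fun e => hz (E.inj (e.trans E.map_z.symm))) h
      · intro hb
        have hmem : E.hom n ∈ vG E (mk3 j) (mk3_mem j hj).1 ∨ E.hom n ∈ vG E (mk3 k) (mk3_mem k hk).1 := by
          simp only [vMasks, cond_true, List.mem_cons, List.not_mem_nil, or_false] at hV
          have hV' : (mk3 i).testBit n.val = true ∨ (mk3 j).testBit n.val = true ∨ (mk3 k).testBit n.val = true := by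
            interval_cases i <;> interval_cases j <;> interval_cases k <;>
              first
              | omega
              | (rcases hV with rfl | rfl | rfl <;> simp_all [mk3])
          rcases hV' with h | h | h
          · rw [hb] at h; exact absurd h (by simp)
          · exact Or.inl ((hom_mem_vG E _).2 h)
          · exact Or.inr ((hom_mem_vG E _).2 h)
        have h1 : E.hom n ≠ 1 := fun e => hn1 (E.inj (e.trans (map_one _).symm))
        rcases hmem with h | h
        · exact isConj_iff.2 (d.h₂.conj_of_mem h h1)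
        · exact isConj_iff.2 (d.h₃.conj_of_mem h h1)
    · simp only [h32, false_and, false_or, not_false_eq_true, true_and]
      constructor
      · intro h
        rcases hout n.val n.val_lt with h' | ⟨g, hg, hgn⟩
        · exact absurd h' (by
            rw [hiv, Bool.true_and, Bool.not_eq_false', show Nat.blt n.val 32 = false from
              Bool.eq_false_iff.2 fun e => h32 (by rwa [Nat.blt_eq] at e)]
            simp)
        rcases hgn with hgn | hgn
        · exact Or.inl ⟨decide_eq_true ((hrep 96 g n (by norm_num) hg hgn).1 h), g, hg, hgn⟩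
        · exact Or.inr ⟨decide_eq_true ((hrep 101 g n (by norm_num) hg hgn).1 h), g, hg, hgn⟩
      · rintro (⟨h1, g, hg, hgn⟩ | ⟨h1, g, hg, hgn⟩)
        · exact (hrep 96 g n (by norm_num) hg hgn).2 (of_decide_eq_true h1)
        · exact (hrep 101 g n (by norm_num) hg hgn).2 (of_decide_eq_true h1)
  have hO : d.O.ncard = (List.range 192).countP (oB i f f') := by
    rw [← Mdl.nat_card_filter (ty := true) (us := false), ← Nat.card_coe_set_eq]
    refine (Nat.card_eq_of_bijective
      (fun n : {n : Mdl true false // oB i f f' n.val = true} => (⟨E.hom n.1, ?_⟩ : d.O)) ⟨?_, ?_⟩).symm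
    · have hn := n.2
      simp only [oB, Bool.and_eq_true, Bool.or_eq_true, beq_iff_eq] at hn
      refine ⟨(hom_mem_eG E).2 hn.1, (key n.1).2 ?_⟩
      rcases hn.2 with h | ⟨h, h'⟩
      · exact Or.inl h
      refine Or.inr ⟨h, ?_⟩
      by_cases h32 : n.1.val < 32
      · rw [(by rwa [Nat.blt_eq] : Nat.blt n.1.val 32 = true), cond_true, Bool.not_eq_true'] at h'
        exact Or.inl ⟨h32, h'⟩
      · rw [show Nat.blt n.1.val 32 = false from Bool.eq_false_iff.2 fun e => h32 (by rwa [Nat.blt_eq] at e),
          cond_false] at h'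
        simp only [Bool.or_eq_true, Bool.and_eq_true, List.any_eq_true, List.mem_range, beq_iff_eq] at h'
        exact Or.inr ⟨h32, h'⟩
    · intro a b e
      exact Subtype.ext (E.inj (congrArg Subtype.val e))
    · rintro ⟨y, hy, hc⟩
      obtain ⟨n, hn, rfl⟩ := hy
      refine ⟨⟨n, ?_⟩, rfl⟩
      simp only [oB, Bool.and_eq_true, Bool.or_eq_true, beq_iff_eq]
      refine ⟨hn, ((key n).1 hc).imp id fun ⟨h, h'⟩ => ⟨h, ?_⟩⟩
      rcases h' with ⟨h32, h'⟩ | ⟨h32, h'⟩
      · rw [(by rwa [Nat.blt_eq] : Nat.blt n.val 32 = true), cond_true, h', Bool.not_false]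
      · rw [show Nat.blt n.val 32 = false from Bool.eq_false_iff.2 fun e => h32 (by rwa [Nat.blt_eq] at e),
          cond_false]
        simp only [Bool.or_eq_true, Bool.and_eq_true, List.any_eq_true, List.mem_range, beq_iff_eq]
        exact h'
  have hcnt := List.all_eq_true.1 oB_count i (List.mem_range.2 hi)
  simp only [List.all_eq_true, beq_iff_eq] at hcnt
  have h9 := d.card_O
  rw [hO, hcnt f (by cases f <;> simp) f' (by cases f' <;> simp)] at h9
  have hff : (f = true ∧ f' = false) ∨ (f = false ∧ f' = true) := by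
    generalize f = a at h9
    generalize f' = b at h9
    cases a <;> cases b <;> simp at h9 ⊢
  have hsimp : ∀ (n : Mdl true false) (p : ℕ), sClassB i p n.val = true ↔ n.val = 16 ∨ (ivB true false n.val = true ∧
      ((n.val < 32 ∧ (mk3 i).testBit n.val = false) ∨ (¬ n.val < 32 ∧ ∃ g < 192, cjB g p = n.val))) := by
    intro n p
    simp only [sClassB, Bool.or_eq_true, Bool.and_eq_true, beq_iff_eq]
    by_cases h32 : n.val < 32
    · simp [h32]
    · simp [h32, Bool.eq_false_iff.2 fun e : Nat.blt n.val 32 = true => h32 (by rwa [Nat.blt_eq] at e)]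
  rcases hff with ⟨h1, h2⟩ | ⟨h1, h2⟩
  · exact ⟨96, by simp, fun n => by rw [key, hsimp, h1, h2]; simp⟩
  · exact ⟨101, by simp, fun n => by rw [key, hsimp, h1, h2]; simp⟩

/-- The count of pairs for the order formula. -/
theorem pairs_count (hall : ∀ t : G, orderOf t = 2 → IsConj s t ∨ IsConj (xG E i) t) :
    Nat.card {p : G × G // IsConj s p.1 ∧ IsConj (xG E i) p.2 ∧ s ∈ zpowers (p.1 * p.2)} = 156 := by
  obtain ⟨p, hp, hcl⟩ := exists_outer_class hi hj hk hij hik hjk d
  have hxs := d.x_not_conj
  have hx2 : orderOf (xG E i) = 2 := two_iff.2 ⟨d.sq₁ _ d.x_mem, d.x_ne⟩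
  have hxcl : ∀ n : Mdl true false, IsConj (xG E i) (E.hom n) ↔ xClassB i p n.val = true := by
    intro n
    simp only [xClassB, Bool.and_eq_true, Bool.not_eq_true', ← Bool.not_eq_true, ← hcl]
    constructor
    · intro h
      obtain ⟨g, hg⟩ := isConj_iff.1 h
      obtain ⟨h2, h1⟩ := two_iff.1 (hg ▸ two_conj hx2 g : orderOf (E.hom n) = 2)
      refine ⟨Mdl.iv_iff.2 ⟨E.inj (by rw [map_mul, map_one, h2]), fun e => h1 (by rw [e, map_one]), fun e => ?_⟩,
        fun hs => hxs (hs.trans h.symm)⟩
      rw [e, E.map_z] at h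
      exact hxs h.symm
    · rintro ⟨hiv, hs⟩
      obtain ⟨h2, h1, -⟩ := Mdl.iv_iff.1 hiv
      exact (hall _ (two_iff.2 ⟨by rw [← map_mul, h2, map_one],
        fun e => h1 (E.inj (e.trans (map_one _).symm))⟩)).resolve_left hs
  let P : Mdl true false → ℕ → Bool := fun a v => xClassB i p v && zInB (nmul true false a.val v)
  have step1 : Nat.card {q : Mdl true false × Mdl true false // sClassB i p q.1.val = true ∧
      P q.1 q.2.val = true} =
      Nat.card {q : G × G // IsConj s q.1 ∧ IsConj (xG E i) q.2 ∧ s ∈ zpowers (q.1 * q.2)} := by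
    refine Nat.card_eq_of_bijective (fun q => ⟨(E.hom q.1.1, E.hom q.1.2), ?_⟩) ⟨?_, ?_⟩
    · have h2 := q.2.2
      simp only [P, Bool.and_eq_true] at h2
      refine ⟨(hcl _).2 q.2.1, (hxcl _).2 h2.1, ?_⟩
      rw [← Mdl.mul_val, zInB_iff] at h2
      obtain ⟨m, hm⟩ := h2.2
      refine ⟨m, ?_⟩
      show (E.hom q.1.1 * E.hom q.1.2) ^ m = s
      rw [← map_mul, ← map_zpow, show (q.1.1 * q.1.2) ^ m = Mdl.z from hm, E.map_z]
    · intro a b e
      have e' := congrArg Subtype.val e
      simp only [Prod.mk.injEq] at e'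
      exact Subtype.ext (Prod.ext (E.inj e'.1) (E.inj e'.2))
    · rintro ⟨⟨u, v⟩, hu, hv, hw⟩
      replace hu : IsConj s u := hu
      replace hv : IsConj (xG E i) v := hv
      obtain ⟨m, hm⟩ := hw
      have hm' : (u * v) ^ m = s := hm
      have huu : u * u = 1 := by
        obtain ⟨g, hg⟩ := isConj_iff.1 hu
        exact (two_iff.1 (hg ▸ two_conj E.order_two g : orderOf u = 2)).1
      have hvv : v * v = 1 := by
        obtain ⟨g, hg⟩ := isConj_iff.1 hv
        exact (two_iff.1 (hg ▸ two_conj hx2 g : orderOf v = 2)).1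
      have huc : u * s * u⁻¹ = s := by
        rw [← hm', ← conj_zpow, show u * (u * v) * u⁻¹ = (u * v)⁻¹ by
          rw [← mul_assoc, huu, one_mul, _root_.mul_inv_rev, inv_eq_of_mul_eq_one_right hvv], inv_zpow, hm']
        exact inv_eq_of_mul_eq_one_right (two_iff.1 E.order_two).1
      obtain ⟨a, ha⟩ := E.mem_iff.1 (mul_inv_eq_iff_eq_mul.1 huc)
      have hwc : u * v * s = s * (u * v) := by rw [← hm']; exact (Commute.self_zpow (u * v) m).eq
      have hvc : v * s = s * v := by
        calc v * s = u⁻¹ * (u * v * s) := by group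
          _ = u⁻¹ * (s * u) * v := by rw [hwc]; group
          _ = s * v := by rw [← mul_inv_eq_iff_eq_mul.1 huc]; group
      obtain ⟨b, hb⟩ := E.mem_iff.1 hvc
      refine ⟨⟨(a, b), (hcl a).1 (ha ▸ hu), ?_⟩, Subtype.ext (Prod.ext ha hb)⟩
      simp only [P, Bool.and_eq_true, ← Mdl.mul_val, zInB_iff, ← hxcl, hb]
      refine ⟨hv, m, E.inj ?_⟩
      show E.hom ((a * b) ^ m) = E.hom Mdl.z
      rw [map_zpow, map_mul, ha, hb, hm', E.map_z]
  rw [← step1]
  have e : {q : Mdl true false × Mdl true false // sClassB i p q.1.val = true ∧ P q.1 q.2.val = true} ≃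
      Σ a : Mdl true false, {v : Mdl true false // (sClassB i p a.val && P a v.val) = true} :=
    { toFun := fun q => ⟨q.1.1, q.1.2, by rw [Bool.and_eq_true]; exact q.2⟩
      invFun := fun q => ⟨(q.1, q.2.1), Bool.and_eq_true_iff.1 q.2.2⟩
      left_inv := fun q => rfl
      right_inv := fun q => rfl }
  rw [Nat.card_congr e, Nat.card_sigma]
  have hf : ∀ a : Mdl true false, Nat.card {v : Mdl true false // (sClassB i p a.val && P a v.val) = true} =
      (List.range 192).countP (fun v => sClassB i p a.val && (xClassB i p v && zInB (nmul true false a.val v))) :=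
    fun a => Mdl.nat_card_filter fun v => sClassB i p a.val && P a v
  rw [Finset.sum_congr rfl fun a _ => hf a]
  have hsum : ∀ F : ℕ → ℕ, ∑ a : Mdl true false, F a.val = ((List.range 192).map F).sum := fun F => by
    rw [← Multiset.sum_coe, ← Multiset.map_coe, ← Multiset.range, ← Finset.range_val,
      ← Finset.sum_eq_multiset_sum]
    exact Finset.sum_nbij' Mdl.val Mdl.mk' (fun a _ => Finset.mem_range.2 a.val_lt) (fun u _ => Finset.mem_univ _)
      (fun a _ => Mdl.mk'_val a) (fun u hu => Mdl.val_mk' (Finset.mem_range.1 hu)) (fun a _ => rfl)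
  rw [hsum (fun u => (List.range 192).countP (fun v => sClassB i p u &&
    (xClassB i p v && zInB (nmul true false u v))))]
  have hpc := List.all_eq_true.1 pairCount_all i (List.mem_range.2 hi)
  rw [List.all_eq_true] at hpc
  rw [← beq_iff_eq.1 (hpc p hp), pairCount]
  refine congrArg List.sum (List.map_congr_left fun u _ => ?_)
  cases sClassB i p u <;> simp

end Cfsg.Agent.H87.S3344
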