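import Cfsg.Agent.H87.S3344.SwapChecks
import Cfsg.Agent.H87.S3344.Swap
import Cfsg.Agent.H87.S3344.Simple
import Cfsg.Agent.PGroups.SmallExtraspecial.Swap

/-!
The swap configuration from the model.
-/

set_option autoImplicit false

namespace Cfsg.Agent.H87.S3344

open Subgroup PGroups.SmallExtraspecial

/-- The subgroup of order 16 of the model. -/
def eSub : Subgroup (Mdl true false) where
  carrier := {n | eMask.testBit n.val = true}
  mul_mem' {a b} ha hb := by
    have h := eB_true
    simp only [eB, Bool.and_eq_true, List.all_eq_true, List.mem_range, Bool.or_eq_true, Bool.not_eq_true'] at h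
    have h1 := (h.1.1.2 a.val a.val_lt).resolve_left (by rw [show eMask.testBit a.val = true from ha]; simp)
    show eMask.testBit (a * b).val = true
    rw [Mdl.mul_val]
    exact ((h1.2 b.val b.val_lt).1).resolve_left (by rw [show eMask.testBit b.val = true from hb]; simp)
  one_mem' := by show eMask.testBit (1 : Mdl true false).val = true; rw [Mdl.one_val]; decide +kernel
  inv_mem' {a} ha := by
    have h := eB_true
    simp only [eB, Bool.and_eq_true, List.all_eq_true, List.mem_range, Bool.or_eq_true, Bool.not_eq_true',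
      beq_iff_eq] at h
    have h1 := (h.1.1.2 a.val a.val_lt).resolve_left (by rw [show eMask.testBit a.val = true from ha]; simp)
    have e : a⁻¹ = a := inv_eq_of_mul_eq_one_right (Mdl.sq_val_iff.1 (h1.1.2.trans Mdl.one_val.symm))
    show eMask.testBit (a⁻¹).val = true
    rw [e]; exact ha

lemma eSub_facts : Nat.card eSub = 16 ∧ (∀ a ∈ eSub, a * a = 1 ∧ a ∈ tSub true) ∧
    (∀ b ∈ tSub true, ∀ a ∈ eSub, b * a * b⁻¹ ∈ eSub) ∧
    (∀ x ∈ tSub true, x * x = 1 → x ∉ eSub →
      (List.range 192).countP (fun y => tB y && nmul true false y y == 0 && cmB true false y x.val) < 16) ∧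
    ∀ V ∈ vMasks true, (List.range 192).countP (fun n => V.testBit n && eMask.testBit n) = 4 := by
  have h := eB_true
  simp only [eB, Bool.and_eq_true, List.all_eq_true, List.mem_range, Bool.or_eq_true, Bool.not_eq_true',
    beq_iff_eq, Nat.blt_eq] at h
  obtain ⟨⟨⟨⟨-, h16⟩, hE⟩, hx⟩, hV⟩ := h
  refine ⟨(Mdl.nat_card_filter (ty := true) (us := false) fun n => eMask.testBit n).trans h16,
    fun a ha => ?_, fun b hb a ha => ?_, fun x hx' hx2 hxE => ?_, hV⟩
  · have h1 := (hE a.val a.val_lt).resolve_left (by rw [show eMask.testBit a.val = true from ha]; simp)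
    exact ⟨Mdl.sq_val_iff.1 (h1.1.2.trans Mdl.one_val.symm), h1.1.1⟩
  · have h1 := (hE a.val a.val_lt).resolve_left (by rw [show eMask.testBit a.val = true from ha]; simp)
    show eMask.testBit (b * a * b⁻¹).val = true
    rw [Mdl.conj_val]
    exact ((h1.2 b.val b.val_lt).2).resolve_left (by rw [show tB b.val = true from hb]; simp)
  · rcases hx x.val x.val_lt with (h1 | h1) | h1
    · have : (tB x.val && nmul true false x.val x.val == 0) = true := by
        rw [Bool.and_eq_true, beq_iff_eq]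
        exact ⟨hx', (Mdl.sq_val_iff.2 hx2).trans Mdl.one_val⟩
      rw [h1] at this; exact absurd this (by simp)
    · exact absurd h1 hxE
    · exact h1

section

variable {G : Type*} [Group G] {s : G} (E : Mdl.Emb true false s)

/-- The image of the Sylow subgroup. -/
def tG : Subgroup G := (tSub true).map E.hom

/-- The image of the subgroup of order 16. -/
def eG : Subgroup G := eSub.map E.hom

/-- The image of a chosen involution. -/
def xG (i : ℕ) : G := E.hom (Mdl.mk' (x3 i))

lemma hom_mem_eG {n : Mdl true false} : E.hom n ∈ eG E ↔ eMask.testBit n.val = true :=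
  mem_map_iff_mem E.inj

lemma hom_mem_tG {n : Mdl true false} : E.hom n ∈ tG E ↔ tB n.val = true :=
  mem_map_iff_mem E.inj

lemma cjB_val (g v : Mdl true false) : (g * v * g⁻¹).val = cjB g.val v.val := Mdl.conj_val g v

variable [Finite G]

/-- The configuration. -/
theorem swap_facts {i j k : ℕ} (hi : i < 3) (hj : j < 3) (hk : k < 3) (hij : i ≠ j) (hik : i ≠ k) (hjk : j ≠ k)
    (h₂ : Sett s (vG E (mk3 j) (mk3_mem j hj).1)) (h₃ : Sett s (vG E (mk3 k) (mk3_mem k hk).1)) :
    PGroups.SmallExtraspecial.Swap s (xG E i) (vG E (mk3 i) (mk3_mem i hi).1) (vG E (mk3 j) (mk3_mem j hj).1)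
      (vG E (mk3 k) (mk3_mem k hk).1) (eG E) (tG E) := by
  obtain ⟨hi1, hx32, hx0, hx16, hne⟩ := mk3_mem i hi
  have hjne := (mk3_mem j hj).2.2.2.2
  obtain ⟨hc, hEsq, hEn, huniq, hfour⟩ := eSub_facts
  have hx : (Mdl.mk' (x3 i) : Mdl true false).val = x3 i := Mdl.val_mk' (by omega)
  have hxB := List.all_eq_true.1 xB_all i (List.mem_range.2 hi)
  simp only [xB, Bool.and_eq_true, List.all_eq_true, List.mem_range, Bool.or_eq_true, Bool.not_eq_true',
    beq_iff_eq, List.any_eq_true] at hxB
  obtain ⟨⟨⟨⟨⟨hxV, hxE⟩, hxC⟩, hxZ⟩, hxI⟩, hxU⟩ := hxB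
  have hE2 := eB2_true
  simp only [eB2, Bool.and_eq_true, List.all_eq_true, List.mem_range, Bool.or_eq_true, Bool.not_eq_true',
    beq_iff_eq, List.any_eq_true, beq_eq_false_iff_ne] at hE2
  obtain ⟨⟨⟨hself, hstab⟩, hTsq⟩, hquad⟩ := hE2
  have hmeet : ∀ {a b : ℕ} (ha : a ∈ vMasks true) (hb : b ∈ vMasks true), a ≠ b → ∀ v ∈ vG E a ha,
      v ∈ vG E b hb → v = 1 ∨ v = s := by
    intro a b ha hb hab v hva hvb
    obtain ⟨n, hn, rfl⟩ := hva
    have hnb := (hom_mem_vG E hb).1 hvb
    have h := List.all_eq_true.1 meet_check a ha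
    simp only [List.all_eq_true, List.mem_range, Bool.or_eq_true, Bool.not_eq_true', beq_iff_eq] at h
    rcases (h b hb).resolve_left hab n.val n.val_lt with (h1 | h1) | h1
    · rw [show a.testBit n.val = true from hn, hnb] at h1; simp at h1
    · exact Or.inl (by rw [show n = 1 from Mdl.ext' (h1.trans Mdl.one_val.symm), map_one])
    · exact Or.inr (by rw [show n = Mdl.z from Mdl.ext' (h1.trans Mdl.z_val.symm), E.map_z])
  have hfourG : ∀ {a : ℕ} (ha : a ∈ vMasks true), Nat.card (vG E a ha ⊓ eG E : Subgroup G) = 4 := by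
    intro a ha
    rw [vG, eG, ← map_inf _ _ _ E.inj, card_map_of_injective E.inj, ← hfour a ha,
      ← Mdl.nat_card_filter (ty := true) (us := false)]
    exact Nat.card_congr (Equiv.subtypeEquivRight fun n => by rw [Bool.and_eq_true]; rfl)
  have hxm : (Mdl.mk' (x3 i) : Mdl true false) ≠ 1 ∧ (Mdl.mk' (x3 i) : Mdl true false) ≠ Mdl.z :=
    ⟨fun e => hx0 (by rw [← hx, e, Mdl.one_val]), fun e => hx16 (by rw [← hx, e, Mdl.z_val])⟩
  refine
    { h₂ := h₂
      h₃ := h₃
      meet := hmeet _ _ (hjne k hk hjk)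
      meet₁₂ := hmeet _ _ (hne j hj hij)
      meet₁₃ := hmeet _ _ (hne k hk hik)
      s₁ := s_mem_vG E hi1
      sq₁ := ?_
      card₁ := card_vG E hi1
      norm₁ := cent_le_normalizer E hi1
      six := ?_
      sE := ⟨Mdl.z, (show eMask.testBit (Mdl.z : Mdl true false).val = true by rw [Mdl.z_val]; decide +kernel), E.map_z⟩
      E_sq := ?_
      E_card := ?_
      E_le := ?_
      E_self := ?_
      T_card := ?_
      T_le := ?_
      T_norm := ?_
      T_sq := ?_
      T_center := ?_
      T_fix := ?_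
      stab := ?_
      uniq := ?_
      four₁ := hfourG _
      four₂ := hfourG _
      four₃ := hfourG _
      quad := ?_
      x_mem := (hom_mem_vG E hi1).2 (by rw [hx]; exact hxV)
      xE := (hom_mem_eG E).2 (by rw [hx]; exact hxE)
      x_ne := fun e => hxm.1 (E.inj (e.trans (map_one _).symm))
      x_ne_s := fun e => hxm.2 (E.inj (e.trans E.map_z.symm))
      R_card := ?_
      R_center := ?_
      R_invol := ?_
      V₁_cent := ?_
      cent_two := ?_ }
  · rintro _ ⟨n, hn, rfl⟩
    rw [← map_mul, ((mask_facts hi1).2.2.2 n hn).2.1, map_one]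
  · rintro _ ⟨n, hn, rfl⟩ h1 hs
    obtain ⟨l, hl⟩ := conj_of_mask hi1 (v := Mdl.mk' (x3 i)) (by rw [hx]; exact hxV) hn hxm.1 hxm.2
      (fun e => h1 (by rw [e, map_one])) (fun e => hs (by rw [e, E.map_z]))
    exact ⟨E.hom l, E.comm l, by rw [xG, ← map_inv, ← map_mul, ← map_mul, hl]⟩
  · rintro _ ⟨n, hn, rfl⟩
    rw [← map_mul, (hEsq n hn).1, map_one]
  · rw [eG, card_map_of_injective E.inj, hc]
  · exact map_mono fun n hn => (hEsq n hn).2
  · intro g hgs hg
    obtain ⟨n, rfl⟩ := E.mem_iff.1 hgs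
    rw [hom_mem_eG]
    refine (hself n.val n.val_lt).resolve_right fun ⟨e, he, heM, hne'⟩ => ?_
    have := hg _ ((hom_mem_eG (n := Mdl.mk' e) E).2 (by rw [Mdl.val_mk' he]; exact heM))
    rw [E.comm_iff, ← Mdl.cm_iff, Mdl.val_mk' he, hne'] at this
    exact Bool.false_ne_true this
  · rw [tG, card_map_of_injective E.inj, card_tSub]
  · rintro _ ⟨n, -, rfl⟩
    exact mem_centralizer_singleton_iff.2 (E.comm n)
  · rintro _ ⟨b, hb, rfl⟩
    refine mem_normalizer_of_conj_mem ?_
    rintro _ ⟨a, ha, rfl⟩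
    rw [← map_inv, ← map_mul, ← map_mul]
    exact mem_map_of_mem _ (hEn b hb a ha)
  · rintro _ ⟨b, hb, rfl⟩
    rw [← map_mul, hom_mem_eG, Mdl.mul_val]
    exact ((hTsq b.val b.val_lt).resolve_left (by rw [show tB b.val = true from hb]; simp)).1
  · rintro _ ⟨b, hb, rfl⟩ hcomm
    rcases tSub_center hb (fun t ht => E.comm_iff.1 (hcomm _ (mem_map_of_mem _ ht))) with e | e
    · exact Or.inl (by rw [e, map_one])
    · exact Or.inr (by rw [e, E.map_z])
  · rintro _ ⟨b, hb, rfl⟩ hbE
    have hb' : ¬ eMask.testBit b.val = true := fun h => hbE ((hom_mem_eG E).2 h)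
    have h4 := ((hTsq b.val b.val_lt).resolve_left (by rw [show tB b.val = true from hb]; simp)).2.resolve_left hb'
    have e : (eG E ⊓ centralizer ({E.hom b} : Set G) : Subgroup G) =
        (eSub ⊓ centralizer ({b} : Set (Mdl true false))).map E.hom := by
      ext g
      simp only [mem_inf, mem_map, eG, mem_centralizer_singleton_iff]
      constructor
      · rintro ⟨⟨n, hn, rfl⟩, h⟩; exact ⟨n, ⟨hn, E.comm_iff.1 h⟩, rfl⟩
      · rintro ⟨n, ⟨hn, h⟩, rfl⟩; exact ⟨⟨n, hn, rfl⟩, E.comm_iff.2 h⟩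
    rw [e, card_map_of_injective E.inj, ← h4, ← Mdl.nat_card_filter (ty := true) (us := false)]
    exact Nat.card_congr (Equiv.subtypeEquivRight fun n => by
      rw [Bool.and_eq_true, Mdl.cm_iff, mem_inf, mem_centralizer_singleton_iff]; rfl)
  · intro g hgs hg
    obtain ⟨n, rfl⟩ := E.mem_iff.1 hgs
    rw [hom_mem_tG]
    refine (hstab n.val n.val_lt).resolve_right fun ⟨e, he, heM, hne'⟩ => ?_
    have := (mem_normalizer_iff.1 hg _).1 ((hom_mem_eG (n := Mdl.mk' e) E).2 (by rw [Mdl.val_mk' he]; exact heM))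
    rw [← map_inv, ← map_mul, ← map_mul, hom_mem_eG, cjB_val, Mdl.val_mk' he, hne'] at this
    exact Bool.false_ne_true this
  · intro F hFT hF2 hF16
    have hFE : F ≤ eG E := by
      intro f hf
      obtain ⟨n, hn, rfl⟩ := hFT hf
      refine (hom_mem_eG E).2 (by_contra fun hnE => ?_)
      have hn2 : n * n = 1 := E.inj (by rw [map_mul, hF2 _ hf, map_one])
      have hlt := huniq n hn hn2 hnE
      rw [← Mdl.nat_card_filter (ty := true) (us := false)] at hlt
      have hle : Nat.card F ≤ Nat.card {m : Mdl true false //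
          (tB m.val && nmul true false m.val m.val == 0 && cmB true false m.val n.val) = true} := by
        have hmem : ∀ f : F, ∃ m : Mdl true false, m ∈ tSub true ∧ E.hom m = f := fun f => by
          obtain ⟨m, hm, e⟩ := hFT f.2; exact ⟨m, hm, e⟩
        choose p hp using hmem
        refine Nat.card_le_card_of_injective (fun f => ⟨p f, ?_⟩) fun f f' e => ?_
        · rw [Bool.and_eq_true, Bool.and_eq_true, Mdl.cm_iff, beq_iff_eq, ← Mdl.one_val (ty := true) (us := false),
            Mdl.sq_val_iff]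
          refine ⟨⟨(hp f).1, E.inj (by rw [map_mul, (hp f).2, hF2 _ f.2, map_one])⟩, E.inj ?_⟩
          rw [map_mul, map_mul, (hp f).2]
          have e2 := hF2 _ (mul_mem f.2 hf)
          calc (f : G) * E.hom n = ((f : G) * E.hom n)⁻¹ := (inv_eq_of_mul_eq_one_right e2).symm
            _ = E.hom n * (f : G) := by
              rw [_root_.mul_inv_rev, inv_eq_of_mul_eq_one_right (hF2 _ f.2),
                inv_eq_of_mul_eq_one_right (hF2 _ hf)]
        · have := congrArg (fun m => E.hom m.1) e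
          simp only [(hp f).2, (hp f').2] at this
          exact Subtype.ext this
      omega
    refine eq_of_le_of_card_ge hFE ?_
    rw [hF16, eG, card_map_of_injective E.inj, hc]
  · rintro _ ⟨n, hn, rfl⟩ n1 n2 n3
    have hnv : ∀ a ∈ [i, j, k], ¬ (mk3 a).testBit n.val = true := by
      intro a ha h
      simp only [List.mem_cons, List.not_mem_nil, or_false] at ha
      rcases ha with rfl | rfl | rfl
      · exact n1 ((hom_mem_vG E _).2 h)
      · exact n2 ((hom_mem_vG E _).2 h)
      · exact n3 ((hom_mem_vG E _).2 h)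
    have hall : ∀ a < 3, a ∈ [i, j, k] := fun a ha => by
      simp only [List.mem_cons, List.not_mem_nil, or_false]; omega
    rcases hquad n.val n.val_lt with (((h | h) | h) | h) | ⟨t, ht, ⟨htT, h1⟩, t', ht', ⟨htT', h2⟩, h3⟩
    · exact absurd h (by rw [show eMask.testBit n.val = true from hn]; simp)
    · exact absurd h (hnv 0 (hall 0 (by norm_num)))
    · exact absurd h (hnv 1 (hall 1 (by norm_num)))
    · exact absurd h (hnv 2 (hall 2 (by norm_num)))
    have key : ∀ r (hr : r < 192), (cjB r n.val = n.val ↔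
        E.hom (Mdl.mk' r) * E.hom n * (E.hom (Mdl.mk' r))⁻¹ = E.hom n) := fun r hr => by
      rw [← map_inv, ← map_mul, ← map_mul, E.eq_iff]
      refine ⟨fun e => Mdl.ext' ?_, fun e => ?_⟩
      · rw [cjB_val, Mdl.val_mk' hr, e]
      · have := congrArg Mdl.val e
        rwa [cjB_val, Mdl.val_mk' hr] at this
    refine ⟨E.hom (Mdl.mk' t), (hom_mem_tG E).2 (by rw [Mdl.val_mk' ht]; exact htT),
      E.hom (Mdl.mk' t'), (hom_mem_tG E).2 (by rw [Mdl.val_mk' ht']; exact htT'),
      fun e => h1 ((key t ht).2 e), fun e => h2 ((key t' ht').2 e), fun e => h3 ?_⟩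
    rw [← map_inv, ← map_mul, ← map_mul, ← map_inv, ← map_mul, ← map_mul, E.eq_iff] at e
    have := congrArg Mdl.val e
    rwa [cjB_val, cjB_val, Mdl.val_mk' ht, Mdl.val_mk' ht'] at this
  · rw [xG, E.inf_cent, card_map_of_injective E.inj, ← hxC]
    simp only [cc]
    rw [← Mdl.nat_card_filter (ty := true) (us := false)]
    exact Nat.card_congr (Equiv.subtypeEquivRight fun n => by
      rw [mem_centralizer_singleton_iff, ← hx, Mdl.cm_iff, Mdl.mk'_val])
  · intro z hzs hzx hall
    obtain ⟨n, rfl⟩ := E.mem_iff.1 hzs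
    have hnx : cmB true false n.val (x3 i) = true := by rw [← hx, Mdl.cm_iff]; exact E.comm_iff.1 hzx
    rcases hxZ n.val n.val_lt with ((((h | h) | h) | h) | h) | ⟨r, hr, hrx, hrn⟩
    · rw [hnx] at h; exact absurd h (by simp)
    · exact Or.inl (by rw [show n = 1 from Mdl.ext' (h.trans Mdl.one_val.symm), map_one])
    · exact Or.inr (Or.inl (by rw [show n = Mdl.z from Mdl.ext' (h.trans Mdl.z_val.symm), E.map_z]))
    · exact Or.inr (Or.inr (Or.inl (by rw [show n = Mdl.mk' (x3 i) from Mdl.ext' (h.trans hx.symm)]; rfl)))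
    · refine Or.inr (Or.inr (Or.inr ?_))
      rw [show n = Mdl.mk' (x3 i) * Mdl.z from Mdl.ext' (by rw [Mdl.mul_val, hx, Mdl.z_val]; exact h),
        map_mul, E.map_z]
      rfl
    · have h1 := hall (E.hom (Mdl.mk' r)) (E.comm _) (E.comm_iff.2 (Mdl.cm_iff.1 (by
        rw [Mdl.val_mk' hr, hx]; exact hrx)))
      rw [E.comm_iff, ← Mdl.cm_iff, Mdl.val_mk' hr, hrn] at h1
      exact absurd h1 (by simp)
  · intro r hrs hrx hr2
    obtain ⟨n, rfl⟩ := E.mem_iff.1 hrs
    rcases hxI n.val n.val_lt with (h | h) | h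
    · have : (cmB true false n.val (x3 i) && nmul true false n.val n.val == 0) = true := by
        rw [Bool.and_eq_true, beq_iff_eq, ← hx, Mdl.cm_iff]
        exact ⟨E.comm_iff.1 hrx,
          (Mdl.sq_val_iff.2 (E.inj (by rw [map_mul, hr2, map_one]) : n * n = 1)).trans Mdl.one_val⟩
      rw [h] at this; exact absurd this (by simp)
    · exact Or.inl ((hom_mem_eG E).2 h)
    · exact Or.inr ((hom_mem_vG E hi1).2 h)
  · rintro _ ⟨u, hu, rfl⟩ huE r hrs hrx hru
    obtain ⟨n, rfl⟩ := E.mem_iff.1 hrs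
    have hu' : ¬ eMask.testBit u.val = true := fun h => huE ((hom_mem_eG E).2 h)
    rcases hxU u.val u.val_lt with (h | h) | h
    · exact absurd h (by rw [show (mk3 i).testBit u.val = true from hu]; simp)
    · exact absurd h hu'
    · refine (hom_mem_vG E hi1).2 ((h n.val n.val_lt).resolve_left fun hh => ?_)
      have : (cmB true false n.val (x3 i) && cmB true false n.val u.val) = true := by
        rw [Bool.and_eq_true, ← hx, Mdl.cm_iff, Mdl.cm_iff]
        exact ⟨E.comm_iff.1 hrx, E.comm_iff.1 hru⟩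
      rw [hh] at this; exact absurd this (by simp)
  · intro r hrs hr2 hr1 hrne y hys hyr hy3
    obtain ⟨n, rfl⟩ := E.mem_iff.1 hrs
    obtain ⟨m, rfl⟩ := E.mem_iff.1 hys
    have h := threeB_true
    simp only [threeB, List.all_eq_true, List.mem_range, Bool.or_eq_true, Bool.not_eq_true', beq_iff_eq,
      Bool.and_eq_true, beq_eq_false_iff_ne] at h
    rcases h m.val m.val_lt with (h1 | h1) | h1
    · apply h1
      rw [← Mdl.mul_val, ← Mdl.mul_val, ← Mdl.one_val (ty := true) (us := false)]
      exact congrArg Mdl.val (E.inj (by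
        rw [map_mul, map_mul, map_one, mul_assoc, ← pow_three, ← hy3, pow_orderOf_eq_one]))
    · rw [show m = 1 from Mdl.ext' (h1.trans Mdl.one_val.symm), map_one, orderOf_one] at hy3
      omega
    · rcases h1.2 n.val n.val_lt with h2 | h2
      · refine Bool.false_ne_true (h2.symm.trans (Mdl.iv_iff.2 ⟨E.inj (by rw [map_mul, hr2, map_one]),
          fun e => hr1 (by rw [e, map_one]), fun e => hrne (by rw [e, E.map_z])⟩))
      · exact Bool.false_ne_true (h2.symm.trans (Mdl.cm_iff.2 (E.comm_iff.1 hyr)))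

end

end Cfsg.Agent.H87.S3344
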