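import Cfsg.Agent.H87.S3344.SwapClasses
import Cfsg.Agent.PGroups.SmallExtraspecial.CentBasic

/-!
Global facts in the swap configuration: two classes of involutions, the centraliser of an element of order three.
-/

set_option autoImplicit false

namespace Cfsg.Agent.H87.S3344

open Subgroup PGroups.SmallExtraspecial

variable {G : Type*} [Group G] [Finite G] {s : G} {E : Mdl.Emb true false s}

/-- Every involution is conjugate to `s` or to the chosen one. -/
theorem two_classes {i j k : ℕ} (hi : i < 3) (hj : j < 3) (hk : k < 3) (hij : i ≠ j) (hik : i ≠ k) (hjk : j ≠ k)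
    (d : PGroups.SmallExtraspecial.Swap s (xG E i) (vG E (mk3 i) (mk3_mem i hi).1)
      (vG E (mk3 j) (mk3_mem j hj).1) (vG E (mk3 k) (mk3_mem k hk).1) (eG E) (tG E))
    (t : G) (ht : orderOf t = 2) : IsConj s t ∨ IsConj (xG E i) t := by
  haveI : Fact (Nat.Prime 2) := ⟨Nat.prime_two⟩
  obtain ⟨P, hP⟩ := exists_sylow_T E
  obtain ⟨R, hR⟩ := (IsPGroup.of_card (n := 1) (by
    rw [Nat.card_zpowers, ht, pow_one] : Nat.card (zpowers t) = 2 ^ 1)).exists_le_sylow
  obtain ⟨g, hg⟩ := MulAction.exists_smul_eq G R P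
  have htT : g * t * g⁻¹ ∈ ((tSub true).map E.hom) := by
    rw [← hP, ← hg, Sylow.smul_def]
    exact (Subgroup.smul_mem_pointwise_smul_iff (a := MulAut.conj g)).2 (hR (mem_zpowers _))
  obtain ⟨n, -, hn⟩ := htT
  have hc : IsConj t (E.hom n) := isConj_iff.2 ⟨g, hn.symm⟩
  obtain ⟨hn2, hn1⟩ := two_iff.1 (hn ▸ two_conj ht g : orderOf (E.hom n) = 2)
  suffices h : IsConj s (E.hom n) ∨ IsConj (xG E i) (E.hom n) from
    h.imp (fun h => h.trans hc.symm) (fun h => h.trans hc.symm)
  by_cases hz : n = Mdl.z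
  · exact Or.inl (by rw [hz, E.map_z])
  have hiv : ivB true false n.val = true :=
    Mdl.iv_iff.2 ⟨E.inj (by rw [map_mul, map_one, hn2]), fun e => hn1 (by rw [e, map_one]), hz⟩
  by_cases h32 : n.val < 32
  · have hcl := List.all_eq_true.1 classB₂_all n.val (List.mem_range.2 n.val_lt)
    simp only [classB₂, hiv, Bool.not_true, Bool.false_or, (by rwa [Nat.blt_eq] : Nat.blt n.val 32 = true),
      cond_true, Bool.and_eq_true, List.any_eq_true] at hcl
    obtain ⟨-, V, hV, hVn⟩ := hcl
    simp only [vMasks, cond_true, List.mem_cons, List.not_mem_nil, or_false] at hV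
    have hV' : (mk3 i).testBit n.val = true ∨ (mk3 j).testBit n.val = true ∨ (mk3 k).testBit n.val = true := by
      interval_cases i <;> interval_cases j <;> interval_cases k <;>
        first
        | omega
        | (rcases hV with rfl | rfl | rfl <;> simp_all [mk3])
    have hns : E.hom n ≠ s := fun e => hz (E.inj (e.trans E.map_z.symm))
    rcases hV' with h | h | h
    · obtain ⟨l, -, hl⟩ := d.six _ ((hom_mem_vG E (mk3_mem i hi).1).2 h) hn1 hns
      exact Or.inr (isConj_iff.2 ⟨l, hl⟩)
    · exact Or.inl (isConj_iff.2 (d.h₂.conj_of_mem ((hom_mem_vG E _).2 h) hn1))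
    · exact Or.inl (isConj_iff.2 (d.h₃.conj_of_mem ((hom_mem_vG E _).2 h) hn1))
  · have ho := outerB_true
    simp only [outerB, Bool.and_eq_true, List.all_eq_true, List.mem_range, List.any_eq_true, beq_iff_eq,
      Bool.or_eq_true, Bool.not_eq_true'] at ho
    rcases ho.1.1.1.1.1.1 n.val n.val_lt with h' | ⟨l, hl, hln⟩
    · exact absurd h' (by
        rw [hiv, Bool.true_and, Bool.not_eq_false', show Nat.blt n.val 32 = false from
          Bool.eq_false_iff.2 fun e => h32 (by rwa [Nat.blt_eq] at e)]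
        simp)
    obtain ⟨p, hpE, hpn⟩ : ∃ p : Mdl true false, eMask.testBit p.val = true ∧
        n = Mdl.mk' l * p * (Mdl.mk' l)⁻¹ := by
      rcases hln with h | h
      · exact ⟨Mdl.mk' 96, by rw [Mdl.val_mk' (by norm_num)]; exact ho.1.1.1.2,
          Mdl.ext' (by rw [cjB_val, Mdl.val_mk' hl, Mdl.val_mk' (by norm_num : 96 < 192), h])⟩
      · exact ⟨Mdl.mk' 101, by rw [Mdl.val_mk' (by norm_num)]; exact ho.1.1.2,
          Mdl.ext' (by rw [cjB_val, Mdl.val_mk' hl, Mdl.val_mk' (by norm_num : 101 < 192), h])⟩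
    have hpc : IsConj (E.hom p) (E.hom n) :=
      isConj_iff.2 ⟨E.hom (Mdl.mk' l), by rw [hpn, map_mul, map_mul, map_inv]⟩
    rcases d.E_cases ((hom_mem_eG E).2 hpE) with e | e | e
    · exact absurd (by rw [hpn, map_mul, map_mul, e, map_inv]; group) hn1
    · exact Or.inl (e.2.trans hpc)
    · exact Or.inr ((d.six_conj e).trans hpc)

/-- The centraliser of `s` and an element of order three has order six. -/
theorem card_cent_three (E : Mdl.Emb true false s) {y : G} (hy : orderOf y = 3) (hys : y * s = s * y) :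
    ¬ 4 ∣ Nat.card (centralizer ({s, y} : Set G)) := by
  obtain ⟨m, rfl⟩ := E.mem_iff.1 hys
  have h := threeB_true
  simp only [threeB, List.all_eq_true, List.mem_range, Bool.or_eq_true, Bool.not_eq_true', beq_iff_eq,
    Bool.and_eq_true, beq_eq_false_iff_ne] at h
  have e : centralizer ({s, E.hom m} : Set G) = centralizer ({s} : Set G) ⊓ centralizer ({E.hom m} : Set G) := by
    ext g
    simp [mem_centralizer_iff]
  rcases h m.val m.val_lt with (h1 | h1) | h1
  · exfalso
    apply h1
    rw [← Mdl.mul_val, ← Mdl.mul_val, ← Mdl.one_val (ty := true) (us := false)]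
    exact congrArg Mdl.val (E.inj (by
      rw [map_mul, map_mul, map_one, mul_assoc, ← pow_three, ← hy, pow_orderOf_eq_one]))
  · rw [show m = 1 from Mdl.ext' (h1.trans Mdl.one_val.symm), map_one, orderOf_one] at hy
    omega
  · rw [e, E.inf_cent, card_map_of_injective E.inj]
    have : Nat.card (centralizer ({m} : Set (Mdl true false))) = 6 := by
      rw [← h1.1, cc, ← Mdl.nat_card_filter (ty := true) (us := false)]
      exact Nat.card_congr (Equiv.subtypeEquivRight fun n => by rw [mem_centralizer_singleton_iff, Mdl.cm_iff])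
    rw [this]
    decide

end Cfsg.Agent.H87.S3344
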